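import Mathlib
import Groth.Prelude.Def_W4c5monodromycubicsHesse

/-!
# Linear substitutions, Hessians, flexes of plane cubics
-/

open MvPolynomial Matrix

namespace Groth.Agent.HesseLib

local notation "V" => Fin 3 → ℂ
local notation "P" => MvPolynomial (Fin 3) ℂ
local notation "Mat" => Matrix (Fin 3) (Fin 3) ℂ

/-- The substitution `X_i ↦ Σ_j A_ij X_j`. -/
noncomputable def sub (A : Mat) : P →ₐ[ℂ] P := aeval fun i : Fin 3 => ∑ j : Fin 3, C (A i j) * X j

theorem sub_X (A : Mat) (i : Fin 3) : sub A (X i) = ∑ j : Fin 3, C (A i j) * X j := aeval_X _ i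

theorem sub_C (A : Mat) (c : ℂ) : sub A (C c) = C c := by simp [sub]

theorem eval_sub (A : Mat) (v : V) (f : P) : eval v (sub A f) = eval (A *ᵥ v) f := by
  induction f using MvPolynomial.induction_on with
  | C c => simp [sub_C]
  | add p q hp hq => simp [hp, hq]
  | mul_X p i hp =>
    rw [map_mul, map_mul, hp, map_mul, sub_X]
    simp [Matrix.mulVec, dotProduct]

theorem sub_sub (A B : Mat) (f : P) : sub A (sub B f) = sub (B * A) f := by
  refine MvPolynomial.funext fun v => ?_
  rw [eval_sub, eval_sub, eval_sub, Matrix.mulVec_mulVec]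

theorem sub_one (f : P) : sub 1 f = f := MvPolynomial.funext fun v => by rw [eval_sub, Matrix.one_mulVec]

theorem pderiv_sub (A : Mat) (f : P) (i : Fin 3) :
    pderiv i (sub A f) = ∑ l : Fin 3, C (A l i) * sub A (pderiv l f) := by
  induction f using MvPolynomial.induction_on with
  | C c => simp [sub_C]
  | add p q hp hq => simp only [map_add, hp, hq, mul_add, Finset.sum_add_distrib]
  | mul_X p j hp =>
    rw [map_mul, pderiv_mul, hp, sub_X]
    fin_cases i <;> fin_cases j <;>
      · simp [Fin.sum_univ_three, pderiv_mul, pderiv_X, Pi.single_apply, sub_X]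
        ring

/-- The Hessian determinant. -/
noncomputable def hess (f : P) : P := Matrix.det (Matrix.of fun i j : Fin 3 => pderiv i (pderiv j f))

theorem hess_sub (A : Mat) (f : P) : hess (sub A f) = C (A.det ^ 2) * sub A (hess f) := by
  have : (Matrix.of fun i j : Fin 3 => pderiv i (pderiv j (sub A f))) =
      (A.map C)ᵀ * ((Matrix.of fun i j : Fin 3 => pderiv i (pderiv j f)).map (sub A)) * A.map C := by
    refine Matrix.ext fun i j => ?_
    rw [Matrix.of_apply, pderiv_sub, map_sum]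
    simp only [pderiv_C_mul, pderiv_sub, Matrix.mul_apply, Matrix.transpose_apply, Matrix.map_apply,
      Matrix.of_apply, Finset.mul_sum, Finset.sum_mul, smul_eq_C_mul]
    exact Finset.sum_congr rfl fun l _ => Finset.sum_congr rfl fun x _ => by ring
  rw [hess, this, Matrix.det_mul, Matrix.det_mul, Matrix.det_transpose]
  have h1 : (A.map C).det = (C A.det : P) := (RingHom.map_det (C (R := ℂ) (σ := Fin 3)) A).symm
  have h2 : ((Matrix.of fun i j : Fin 3 => pderiv i (pderiv j f)).map (sub A)).det = sub A (hess f) :=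
    ((sub A).toRingHom.map_det _).symm
  rw [h1, h2, map_pow]
  ring

theorem hess_C_mul (c : ℂ) (f : P) : hess (C c * f) = C (c ^ 3) * hess f := by
  have : (Matrix.of fun i j : Fin 3 => pderiv i (pderiv j (C c * f))) =
      (C c : P) • (Matrix.of fun i j : Fin 3 => pderiv i (pderiv j f)) := by
    refine Matrix.ext fun i j => ?_
    simp [pderiv_C_mul, smul_eq_C_mul]
  rw [hess, this, Matrix.det_smul, Fintype.card_fin, map_pow]
  rfl

/-- No singular point. -/
def Smooth (f : P) : Prop := ∀ v : V, v ≠ 0 → eval v f = 0 → ∃ i : Fin 3, eval v (pderiv i f) ≠ 0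

theorem smooth_sub {f : P} (hf : Smooth f) {A : Mat} (hA : IsUnit A.det) : Smooth (sub A f) := by
  intro v hv h0
  have hinj := Matrix.mulVec_injective_iff_isUnit.2 ((Matrix.isUnit_iff_isUnit_det A).2 hA)
  obtain ⟨l, hl⟩ := hf (A *ᵥ v) (fun h => hv (hinj (by rw [h, Matrix.mulVec_zero]))) (by rwa [← eval_sub])
  by_contra h
  push Not at h
  have h2 : (fun l => eval (A *ᵥ v) (pderiv l f)) ᵥ* A = 0 := funext fun i => by
    have := h i
    simp only [pderiv_sub, map_sum, map_mul, eval_C, eval_sub] at this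
    simp only [Pi.zero_apply, Matrix.vecMul, dotProduct]
    rw [← this]
    exact Finset.sum_congr rfl fun l _ => mul_comm _ _
  have hA' := Matrix.vecMul_injective_iff_isUnit.2 ((Matrix.isUnit_iff_isUnit_det A).2 hA)
  exact hl (congrFun (hA' (h2.trans (Matrix.zero_vecMul A).symm)) l)

theorem smooth_C_mul {f : P} (hf : Smooth f) {c : ℂ} (hc : c ≠ 0) : Smooth (C c * f) := by
  intro v hv h
  rw [map_mul, eval_C, mul_eq_zero] at h
  obtain ⟨i, hi⟩ := hf v hv (h.resolve_left hc)
  exact ⟨i, by rw [pderiv_C_mul]; simp [hc, hi]⟩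

theorem smooth_of_eq {f g : P} {A : Mat} {c : ℂ} (hf : Smooth f) (hA : IsUnit A.det) (hc : c ≠ 0)
    (h : sub A f = C c * g) : Smooth g := by
  have h1 : g = C c⁻¹ * sub A f := by
    rw [h, ← mul_assoc, ← map_mul, inv_mul_cancel₀ hc, map_one, one_mul]
  rw [h1]
  exact smooth_C_mul (smooth_sub hf hA) (inv_ne_zero hc)

/-- Some line meets the curve with multiplicity three at `v`. -/
def Flex (f : P) (v : V) : Prop :=
  ∃ w : V, LinearIndependent ℂ ![v, w] ∧ ∀ t : ℂ, eval (v + t • w) f = t ^ 3 * eval w f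

theorem flex_map {f g : P} {A : Mat} {c : ℂ} (hA : IsUnit A.det) (h : sub A f = C c * g) {v : V}
    (hv : Flex g v) : Flex f (A *ᵥ v) := by
  obtain ⟨w, hw, ht⟩ := hv
  refine ⟨A *ᵥ w, ?_, fun t => ?_⟩
  · rw [LinearIndependent.pair_iff]
    intro a b hab
    refine (LinearIndependent.pair_iff.1 hw) a b ?_
    refine Matrix.mulVec_injective_iff_isUnit.2 ((Matrix.isUnit_iff_isUnit_det A).2 hA) ?_
    rw [Matrix.mulVec_zero, Matrix.mulVec_add, Matrix.mulVec_smul, Matrix.mulVec_smul, hab]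
  · rw [← Matrix.mulVec_smul, ← Matrix.mulVec_add, ← eval_sub, ← eval_sub, h, map_mul, map_mul,
      ht, eval_C, eval_C]
    ring

theorem sub_inv_eq {f g : P} {A : Mat} {c : ℂ} (hA : IsUnit A.det) (hc : c ≠ 0)
    (h : sub A f = C c * g) : sub A⁻¹ g = C c⁻¹ * f := by
  have h1 : sub A⁻¹ (sub A f) = f := by rw [sub_sub, Matrix.mul_nonsing_inv A hA, sub_one]
  rw [h, map_mul, sub_C] at h1
  conv_rhs => rw [← h1]
  rw [← mul_assoc, ← map_mul, inv_mul_cancel₀ hc, map_one, one_mul]

/-- The general ternary cubic. -/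
noncomputable def cub (a b c d e f g h i j : ℂ) : P :=
  C a * X 0 ^ 3 + C b * X 1 ^ 3 + C c * X 2 ^ 3 + C d * (X 0 ^ 2 * X 1) + C e * (X 0 ^ 2 * X 2) +
    C f * (X 1 ^ 2 * X 0) + C g * (X 1 ^ 2 * X 2) + C h * (X 2 ^ 2 * X 0) + C i * (X 2 ^ 2 * X 1) +
    C j * (X 0 * X 1 * X 2)

theorem exists_eq_cub {p : P} (hp : p.IsHomogeneous 3) :
    ∃ a b c d e f g h i j, p = cub a b c d e f g h i j := by
  classical
  suffices h : ∀ s : Finset (Fin 3 →₀ ℕ), (∀ m ∈ s, m 0 + m 1 + m 2 = 3) →
      ∃ a b c d e f g h i j, (∑ m ∈ s, monomial m (p.coeff m)) = cub a b c d e f g h i j by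
    obtain ⟨a, b, c, d, e, f, g, h, i, j, hh⟩ := h p.support fun m hm => by
      have := hp (MvPolynomial.mem_support_iff.1 hm)
      simpa [Finsupp.weight_apply, Finsupp.sum_fintype, Fin.sum_univ_three] using this
    exact ⟨a, b, c, d, e, f, g, h, i, j, p.as_sum.trans hh⟩
  intro s
  induction s using Finset.induction_on with
  | empty => exact fun _ => ⟨0, 0, 0, 0, 0, 0, 0, 0, 0, 0, by simp [cub]⟩
  | insert m s hm ih =>
    intro hs
    obtain ⟨a, b, c, d, e, f, g, h, i, j, hh⟩ := ih fun x hx => hs x (Finset.mem_insert_of_mem hx)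
    rw [Finset.sum_insert hm, hh]
    have hsum := hs m (Finset.mem_insert_self _ _)
    have hmon : monomial m (p.coeff m) = C (p.coeff m) * (X 0 ^ m 0 * X 1 ^ m 1 * X 2 ^ m 2) := by
      rw [monomial_eq, Finsupp.prod_fintype _ _ (fun i => pow_zero _), Fin.prod_univ_three]
    set r := p.coeff m
    rw [hmon]
    generalize m 0 = x, m 1 = y, m 2 = z at hsum
    have hx : x ≤ 3 := by omega
    have hy : y ≤ 3 := by omega
    obtain rfl : z = 3 - x - y := by omega
    interval_cases x <;> interval_cases y <;> (try omega)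
    · exact ⟨a, b, r + c, d, e, f, g, h, i, j, by simp [cub]; ring⟩
    · exact ⟨a, b, c, d, e, f, g, h, r + i, j, by simp [cub]; ring⟩
    · exact ⟨a, b, c, d, e, f, r + g, h, i, j, by simp [cub]; ring⟩
    · exact ⟨a, r + b, c, d, e, f, g, h, i, j, by simp [cub]; ring⟩
    · exact ⟨a, b, c, d, e, f, g, r + h, i, j, by simp [cub]; ring⟩
    · exact ⟨a, b, c, d, e, f, g, h, i, r + j, by simp [cub]; ring⟩
    · exact ⟨a, b, c, d, e, r + f, g, h, i, j, by simp [cub]; ring⟩
    · exact ⟨a, b, c, d, r + e, f, g, h, i, j, by simp [cub]; ring⟩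
    · exact ⟨a, b, c, r + d, e, f, g, h, i, j, by simp [cub]; ring⟩
    · exact ⟨r + a, b, c, d, e, f, g, h, i, j, by simp [cub]; ring⟩

theorem isHomogeneous_sub {f : P} (hf : f.IsHomogeneous 3) (A : Mat) : (sub A f).IsHomogeneous 3 := by
  have := hf.aeval (fun i => ∑ j : Fin 3, C (A i j) * X j)
    (fun i => IsHomogeneous.sum _ _ 1 fun j _ => (isHomogeneous_X ℂ j).C_mul _)
  simpa [sub] using this

theorem eval_cub (v : V) (a b c d e f g h i j : ℂ) : eval v (cub a b c d e f g h i j) =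
    a * v 0 ^ 3 + b * v 1 ^ 3 + c * v 2 ^ 3 + d * (v 0 ^ 2 * v 1) + e * (v 0 ^ 2 * v 2) +
    f * (v 1 ^ 2 * v 0) + g * (v 1 ^ 2 * v 2) + h * (v 2 ^ 2 * v 0) + i * (v 2 ^ 2 * v 1) +
    j * (v 0 * v 1 * v 2) := by
  simp [cub]

end Groth.Agent.HesseLib
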