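import Mathlib
import Groth.Agent.HesseLib.Basic

/-!
# The Hesse pencil; existence of Hesse normal forms
-/

set_option linter.style.haveILetI false

open MvPolynomial Matrix

namespace Groth.Agent.HesseLib

local notation "V" => Fin 3 → ℂ
local notation "P" => MvPolynomial (Fin 3) ℂ
local notation "Mat" => Matrix (Fin 3) (Fin 3) ℂ

theorem pderiv_num (i : Fin 3) (n : ℕ) [n.AtLeastTwo] : pderiv i (OfNat.ofNat n : P) = 0 := by
  rw [← map_ofNat (C : ℂ →+* P) n, pderiv_C]

theorem form_eq_cub (k : ℂ) :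
    HesseCubic.form k = cub 1 1 1 0 0 0 0 0 0 (-(3 * k)) := by
  simp [HesseCubic.form, cub]
  ring

theorem eval_form (k : ℂ) (v : V) : eval v (HesseCubic.form k) =
    v 0 ^ 3 + v 1 ^ 3 + v 2 ^ 3 - 3 * k * (v 0 * v 1 * v 2) := by simp [HesseCubic.form]

theorem eval_pderiv_cub (v : V) (a b c d e f g h i j : ℂ) :
    eval v (pderiv 0 (cub a b c d e f g h i j)) = 3 * a * v 0 ^ 2 + 2 * d * (v 0 * v 1) +
        2 * e * (v 0 * v 2) + f * v 1 ^ 2 + h * v 2 ^ 2 + j * (v 1 * v 2) ∧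
    eval v (pderiv 1 (cub a b c d e f g h i j)) = 3 * b * v 1 ^ 2 + d * v 0 ^ 2 + 2 * f * (v 1 * v 0) +
        2 * g * (v 1 * v 2) + i * v 2 ^ 2 + j * (v 0 * v 2) ∧
    eval v (pderiv 2 (cub a b c d e f g h i j)) = 3 * c * v 2 ^ 2 + e * v 0 ^ 2 + g * v 1 ^ 2 +
        2 * h * (v 2 * v 0) + 2 * i * (v 2 * v 1) + j * (v 0 * v 1) := by
  refine ⟨?_, ?_, ?_⟩ <;>
  · simp [cub, pderiv_mul, pderiv_pow, Pi.single_apply, pderiv_X, pderiv_num]
    ring

theorem eval_pderiv_form (k : ℂ) (v : V) :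
    eval v (pderiv 0 (HesseCubic.form k)) = 3 * v 0 ^ 2 - 3 * k * (v 1 * v 2) ∧
    eval v (pderiv 1 (HesseCubic.form k)) = 3 * v 1 ^ 2 - 3 * k * (v 0 * v 2) ∧
    eval v (pderiv 2 (HesseCubic.form k)) = 3 * v 2 ^ 2 - 3 * k * (v 0 * v 1) := by
  rw [form_eq_cub]
  obtain ⟨h0, h1, h2⟩ := eval_pderiv_cub v 1 1 1 0 0 0 0 0 0 (-(3 * k))
  rw [h0, h1, h2]
  refine ⟨?_, ?_, ?_⟩ <;> ring

theorem eval_hess_cub (v : V) (a b c d e f g h i j : ℂ) :
    eval v (hess (cub a b c d e f g h i j)) = Matrix.det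
      !![6 * a * v 0 + 2 * d * v 1 + 2 * e * v 2, 2 * d * v 0 + 2 * f * v 1 + j * v 2,
        2 * e * v 0 + j * v 1 + 2 * h * v 2;
      2 * d * v 0 + 2 * f * v 1 + j * v 2, 2 * f * v 0 + 6 * b * v 1 + 2 * g * v 2,
        j * v 0 + 2 * g * v 1 + 2 * i * v 2;
      2 * e * v 0 + j * v 1 + 2 * h * v 2, j * v 0 + 2 * g * v 1 + 2 * i * v 2,
        2 * h * v 0 + 2 * i * v 1 + 6 * c * v 2] := by
  refine ((eval v).map_det _).trans (congrArg Matrix.det (Matrix.ext fun r s => ?_))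
  fin_cases r <;> fin_cases s <;>
  · simp [cub, pow_succ, pow_zero, one_mul, pderiv_mul, Pi.single_apply, pderiv_X]
    ring

theorem hess_form (k : ℂ) : hess (HesseCubic.form k) =
    C (-(54 * k ^ 2)) * HesseCubic.form k + C (216 * (1 - k ^ 3)) * (X 0 * X 1 * X 2) := by
  refine MvPolynomial.funext fun v => ?_
  rw [map_add, map_mul, map_mul, eval_C, eval_C, eval_form, form_eq_cub, eval_hess_cub,
    Matrix.det_fin_three]
  simp
  ring

theorem pow_three_ne_one_of_smooth {k : ℂ} (h : Smooth (HesseCubic.form k)) : k ^ 3 ≠ 1 := by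
  intro hk
  obtain ⟨i, hi⟩ := h ![k ^ 2, 1, 1] (fun h0 => by simpa using congrFun h0 1) (by
    rw [eval_form]; simp; linear_combination (k ^ 3 - 2) * hk)
  apply hi
  obtain ⟨h0, h1, h2⟩ := eval_pderiv_form k ![k ^ 2, 1, 1]
  fin_cases i
  · refine h0.trans ?_; simp; linear_combination (3 * k) * hk
  · refine h1.trans ?_; simp; linear_combination (-3 : ℂ) * hk
  · refine h2.trans ?_; simp; linear_combination (-3 : ℂ) * hk

theorem smooth_form {k : ℂ} (hk : k ^ 3 ≠ 1) : Smooth (HesseCubic.form k) := by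
  intro v hv _
  by_contra h
  push Not at h
  obtain ⟨h0, h1, h2⟩ := eval_pderiv_form k v
  rw [h 0] at h0
  rw [h 1] at h1
  rw [h 2] at h2
  have a0 : v 0 ^ 2 = k * (v 1 * v 2) := by linear_combination (-(1/3 : ℂ)) * h0
  have a1 : v 1 ^ 2 = k * (v 0 * v 2) := by linear_combination (-(1/3 : ℂ)) * h1
  have a2 : v 2 ^ 2 = k * (v 0 * v 1) := by linear_combination (-(1/3 : ℂ)) * h2
  have hp : (v 0 * v 1 * v 2) ^ 2 = k ^ 3 * (v 0 * v 1 * v 2) ^ 2 := by
    calc (v 0 * v 1 * v 2) ^ 2 = v 0 ^ 2 * v 1 ^ 2 * v 2 ^ 2 := by ring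
      _ = _ := by rw [a0, a1, a2]; ring
  have hz : v 0 * v 1 * v 2 = 0 := by
    have : (1 - k ^ 3) * (v 0 * v 1 * v 2) ^ 2 = 0 := by linear_combination hp
    exact eq_zero_of_pow_eq_zero ((mul_eq_zero.1 this).resolve_left (sub_ne_zero.2 (Ne.symm hk)))
  refine hv (funext fun i => ?_)
  have e0 : v 0 ^ 3 = 0 := by linear_combination v 0 * a0 + k * hz
  have e1 : v 1 ^ 3 = 0 := by linear_combination v 1 * a1 + k * hz
  have e2 : v 2 ^ 3 = 0 := by linear_combination v 2 * a2 + k * hz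
  fin_cases i
  · exact eq_zero_of_pow_eq_zero e0
  · exact eq_zero_of_pow_eq_zero e1
  · exact eq_zero_of_pow_eq_zero e2

theorem eval_taylor_cub (v w : V) (t : ℂ) (a b c d e f g h i j : ℂ) :
    eval (v + t • w) (cub a b c d e f g h i j) = eval v (cub a b c d e f g h i j) +
      t * (w 0 * eval v (pderiv 0 (cub a b c d e f g h i j)) +
        w 1 * eval v (pderiv 1 (cub a b c d e f g h i j)) +
        w 2 * eval v (pderiv 2 (cub a b c d e f g h i j))) +
      t ^ 2 * (v 0 * eval w (pderiv 0 (cub a b c d e f g h i j)) +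
        v 1 * eval w (pderiv 1 (cub a b c d e f g h i j)) +
        v 2 * eval w (pderiv 2 (cub a b c d e f g h i j))) +
      t ^ 3 * eval w (cub a b c d e f g h i j) := by
  obtain ⟨p0, p1, p2⟩ := eval_pderiv_cub v a b c d e f g h i j
  obtain ⟨q0, q1, q2⟩ := eval_pderiv_cub w a b c d e f g h i j
  rw [p0, p1, p2, q0, q1, q2, eval_cub, eval_cub, eval_cub]
  simp only [Pi.add_apply, Pi.smul_apply, smul_eq_mul]
  ring

/-- A flex lies on the Hessian. -/
theorem hess_eval_eq_zero_of_flex {p : P} (hp : p.IsHomogeneous 3) {v : V} (hfl : Flex p v) :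
    eval v (hess p) = 0 := by
  obtain ⟨a, b, c, d, e, f, g, h, i, j, rfl⟩ := exists_eq_cub hp
  obtain ⟨w, hw, ht⟩ := hfl
  set Q := cub a b c d e f g h i j with hQ
  have hv0 : eval v Q = 0 := by simpa using ht 0
  have h1 := ht 1
  have h2 := ht (-1)
  rw [eval_taylor_cub v w, ← hQ, hv0] at h1 h2
  have hlin : w 0 * eval v (pderiv 0 Q) + w 1 * eval v (pderiv 1 Q) + w 2 * eval v (pderiv 2 Q) = 0 := by
    linear_combination (h1 - h2) / 2
  have hquad : v 0 * eval w (pderiv 0 Q) + v 1 * eval w (pderiv 1 Q) + v 2 * eval w (pderiv 2 Q) = 0 := by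
    linear_combination (h1 + h2) / 2
  obtain ⟨p0, p1, p2⟩ := eval_pderiv_cub v a b c d e f g h i j
  obtain ⟨q0, q1, q2⟩ := eval_pderiv_cub w a b c d e f g h i j
  rw [← hQ] at p0 p1 p2 q0 q1 q2
  rw [eval_cub] at hv0
  rw [p0, p1, p2] at hlin
  rw [q0, q1, q2] at hquad
  show eval v (hess Q) = 0
  rw [hQ, eval_hess_cub]
  set M : Mat := !![6 * a * v 0 + 2 * d * v 1 + 2 * e * v 2, 2 * d * v 0 + 2 * f * v 1 + j * v 2,
        2 * e * v 0 + j * v 1 + 2 * h * v 2;
      2 * d * v 0 + 2 * f * v 1 + j * v 2, 2 * f * v 0 + 6 * b * v 1 + 2 * g * v 2,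
        j * v 0 + 2 * g * v 1 + 2 * i * v 2;
      2 * e * v 0 + j * v 1 + 2 * h * v 2, j * v 0 + 2 * g * v 1 + 2 * i * v 2,
        2 * h * v 0 + 2 * i * v 1 + 6 * c * v 2] with hMe
  by_contra hdet
  -- `M v` and `M w` both annihilate `v` and `w`
  have hvv : v ⬝ᵥ (M *ᵥ v) = 0 := by
    rw [hMe]; simp [Matrix.mulVec, dotProduct, Fin.sum_univ_three]; linear_combination 6 * hv0
  have hwv : w ⬝ᵥ (M *ᵥ v) = 0 := by
    rw [hMe]; simp [Matrix.mulVec, dotProduct, Fin.sum_univ_three]; linear_combination 2 * hlin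
  have hvw : v ⬝ᵥ (M *ᵥ w) = 0 := by
    rw [hMe]; simp [Matrix.mulVec, dotProduct, Fin.sum_univ_three]; linear_combination 2 * hlin
  have hww : w ⬝ᵥ (M *ᵥ w) = 0 := by
    rw [hMe]; simp [Matrix.mulVec, dotProduct, Fin.sum_univ_three]; linear_combination 2 * hquad
  let R : Matrix (Fin 2) (Fin 3) ℂ := Matrix.of ![v, w]
  have hR : ∀ x : V, R *ᵥ x = ![v ⬝ᵥ x, w ⬝ᵥ x] := fun x => funext fun r => by
    fin_cases r <;> rfl
  have hinj := Matrix.mulVec_injective_iff_isUnit.2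
    ((Matrix.isUnit_iff_isUnit_det M).2 (isUnit_iff_ne_zero.2 hdet))
  have hind : LinearIndependent ℂ ![M *ᵥ v, M *ᵥ w] := by
    rw [LinearIndependent.pair_iff]
    intro x y hxy
    refine (LinearIndependent.pair_iff.1 hw) x y (hinj ?_)
    rw [Matrix.mulVec_zero, Matrix.mulVec_add, Matrix.mulVec_smul, Matrix.mulVec_smul, hxy]
  have hrank : R.rank = 2 :=
    ((show LinearIndependent ℂ R.row from hw).rank_matrix).trans (Fintype.card_fin 2)
  have hker : Module.finrank ℂ (LinearMap.ker R.mulVecLin) = 1 := by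
    have h3 := LinearMap.finrank_range_add_finrank_ker R.mulVecLin
    rw [Module.finrank_fin_fun] at h3
    have : Module.finrank ℂ (LinearMap.range R.mulVecLin) = 2 := hrank
    omega
  have hsub : Submodule.span ℂ (Set.range ![M *ᵥ v, M *ᵥ w]) ≤ LinearMap.ker R.mulVecLin := by
    rw [Submodule.span_le]
    rintro _ ⟨r, rfl⟩
    fin_cases r
    · show R *ᵥ (M *ᵥ v) = 0
      rw [hR, hvv, hwv]; simp
    · show R *ᵥ (M *ᵥ w) = 0
      rw [hR, hvw, hww]; simp
  have h4 := Submodule.finrank_mono hsub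
  rw [finrank_span_eq_card hind, hker, Fintype.card_fin] at h4
  omega

theorem exists_common_zero (p q : P) (hp : eval 0 p = 0) (hq : eval 0 q = 0) :
    ∃ v : V, v ≠ 0 ∧ eval v p = 0 ∧ eval v q = 0 := by
  by_contra h
  push Not at h
  let m : Ideal P := RingHom.ker (eval (0 : V))
  have hrad : (Ideal.span {p, q}).radical = m := by
    rw [← vanishingIdeal_zeroLocus_eq_radical (K := ℂ)]
    have : zeroLocus ℂ (Ideal.span {p, q}) = {(0 : V)} := by
      ext v
      rw [zeroLocus_span]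
      simp only [Set.mem_setOf_eq, Set.mem_singleton_iff, Set.mem_insert_iff, forall_eq_or_imp, forall_eq,
        aeval_eq_eval]
      exact ⟨fun ⟨a, b⟩ => by_contra fun hv => h v hv a b, fun hv => by subst hv; exact ⟨hp, hq⟩⟩
    rw [this]
    ext r
    rw [mem_vanishingIdeal_singleton_iff, aeval_eq_eval]
    rfl
  have hmin : m ∈ (Ideal.span ({p, q} : Set P)).minimalPrimes := by
    haveI : m.IsPrime := RingHom.ker_isPrime _
    refine ⟨⟨inferInstance, hrad ▸ Ideal.le_radical⟩, fun J ⟨hJ, hle⟩ _ => ?_⟩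
    rw [← hrad]
    exact (hJ.isRadical.radical_le_iff).2 hle
  classical
  have h2 : m.height ≤ 2 := by
    have h1 : m ∈ (Ideal.span (({p, q} : Finset P) : Set P)).minimalPrimes := by simpa using hmin
    exact (Ideal.height_le_card_of_mem_minimalPrimes_span_finset h1).trans (by
      exact_mod_cast Finset.card_le_two)
  -- a chain of primes of length three
  let K : Mat → Ideal P := fun A => RingHom.ker (sub A).toRingHom
  haveI hK : ∀ A, (K A).IsPrime := fun A => RingHom.ker_isPrime _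
  have hmono : ∀ A B : Mat, A * B = B → K A ≤ K B := fun A B hAB r hr => by
    show sub B r = 0
    rw [← hAB, ← sub_sub, show sub A r = 0 from hr, map_zero]
  let D : Fin 4 → Mat := fun j => Matrix.diagonal fun i : Fin 3 => if j.val ≤ i.val then 1 else 0
  have hlt : ∀ j : Fin 3, K (D j.castSucc) < K (D j.succ) := by
    intro j
    refine lt_of_le_of_ne (hmono _ _ ?_) fun he => ?_
    · rw [Matrix.diagonal_mul_diagonal]
      refine congrArg Matrix.diagonal (funext fun i => ?_)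
      simp only [Fin.val_castSucc, Fin.val_succ]
      by_cases h1 : j.val + 1 ≤ i.val
      · rw [if_pos h1, if_pos (by omega), one_mul]
      · rw [if_neg h1, mul_zero]
    · have hmem : (X j : P) ∈ K (D j.succ) := by
        show sub (D j.succ) (X j) = 0
        refine MvPolynomial.funext fun x => ?_
        rw [eval_sub, eval_X, map_zero, Matrix.mulVec_diagonal, Fin.val_succ, if_neg (by omega),
          zero_mul]
      rw [← he] at hmem
      have h5 : sub (D j.castSucc) (X j) = 0 := hmem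
      have := congrArg (eval (fun _ => (1 : ℂ))) h5
      rw [eval_sub, eval_X, map_zero, Matrix.mulVec_diagonal, Fin.val_castSucc, if_pos le_rfl,
        one_mul] at this
      exact one_ne_zero this
  have e1 := Ideal.height_add_one_le_of_lt_of_isPrime (hlt 0)
  have e2 := Ideal.height_add_one_le_of_lt_of_isPrime (hlt 1)
  have e3 := Ideal.height_add_one_le_of_lt_of_isPrime (hlt 2)
  have hm : m = K (D (Fin.succ 2)) := by
    ext r
    show eval 0 r = 0 ↔ sub (D (Fin.succ 2)) r = 0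
    have hz : ∀ x : V, eval x (sub (D (Fin.succ 2)) r) = eval 0 r := fun x => by
      rw [eval_sub]
      refine congrArg (fun y : V => eval y r) (funext fun i => ?_)
      rw [Matrix.mulVec_diagonal, if_neg, zero_mul]
      · rfl
      · simp only [Fin.val_succ, Fin.val_two]; omega
    exact ⟨fun h0 => MvPolynomial.funext fun x => by rw [hz, h0, map_zero],
      fun h0 => by rw [← hz 0, h0, map_zero]⟩
  rw [hm] at h2
  have : (3 : ℕ∞) ≤ (K (D (Fin.succ 2))).height := by
    refine le_trans ?_ e3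
    refine le_trans ?_ (add_le_add_left e2 1)
    refine le_trans ?_ (add_le_add_left (add_le_add_left e1 1) 1)
    rw [add_assoc, add_assoc]
    exact le_add_left (by norm_num)
  have := this.trans h2
  exact absurd this (by decide)

/-- Existence of a flex, moved to `(0,1,0)` with tangent line `z = 0`. -/
theorem exists_flex_coordinates {p : P} (hp : p.IsHomogeneous 3) (hs : Smooth p) :
    ∃ (A : Mat) (a c e g h i j : ℂ), IsUnit A.det ∧ g = 1 ∧ a ≠ 0 ∧
      sub A p = cub a 0 c 0 e 0 g h i j := by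
  obtain ⟨a, b, c, d, e, f, g, h, i, j, hc⟩ := exists_eq_cub hp
  obtain ⟨v, hv, hpv, hH⟩ := exists_common_zero p (hess p)
    (by rw [hc, eval_cub]; simp)
    (by rw [hc, eval_hess_cub, Matrix.det_fin_three]; simp)
  -- move `v` to `(0,1,0)`
  obtain ⟨B, hB, hBv⟩ : ∃ B : Mat, IsUnit B.det ∧ B *ᵥ ![0, 1, 0] = v := by
    by_cases h1 : v 1 = 0
    · by_cases h0 : v 0 = 0
      · have h2 : v 2 ≠ 0 := fun h2 => hv (funext fun i => by fin_cases i <;> assumption)
        refine ⟨!![1, v 0, 0; 0, v 1, 1; 0, v 2, 0], ?_, ?_⟩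
        · simp [Matrix.det_fin_three, h0, h1, h2]
        · funext i; fin_cases i <;> simp [Matrix.mulVec, dotProduct, Fin.sum_univ_three]
      · refine ⟨!![0, v 0, 0; 1, v 1, 0; 0, v 2, 1], ?_, ?_⟩
        · simp [Matrix.det_fin_three, h0]
        · funext i; fin_cases i <;> simp [Matrix.mulVec, dotProduct, Fin.sum_univ_three]
    · refine ⟨!![1, v 0, 0; 0, v 1, 0; 0, v 2, 1], ?_, ?_⟩
      · simp [Matrix.det_fin_three, h1]
      · funext i; fin_cases i <;> simp [Matrix.mulVec, dotProduct, Fin.sum_univ_three]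
  clear hc a b c d e f g h i j
  obtain ⟨a, b, c, d, e, f, g, h, i, j, hc⟩ := exists_eq_cub (isHomogeneous_sub hp B)
  have hs1 := smooth_sub hs hB
  have hb : b = 0 := by
    have h1 : eval ![0, 1, 0] (sub B p) = 0 := by rw [eval_sub, hBv, hpv]
    rw [hc, eval_cub] at h1
    simpa using h1
  have hH1 : eval ![0, 1, 0] (hess (sub B p)) = 0 := by
    rw [hess_sub, map_mul, eval_sub, hBv, hH, mul_zero]
  obtain ⟨l, hl⟩ := hs1 ![0, 1, 0] (fun h0 => by simpa using congrFun h0 1) (by rw [eval_sub, hBv, hpv])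
  have hfg : f ≠ 0 ∨ g ≠ 0 := by
    by_contra hfg
    push Not at hfg
    apply hl
    obtain ⟨p0, p1, p2⟩ := eval_pderiv_cub ![0, 1, 0] a b c d e f g h i j
    rw [hc]
    fin_cases l
    · refine p0.trans ?_; simp [hfg.1]
    · refine p1.trans ?_; simp [hb]
    · refine p2.trans ?_; simp [hfg.2]
  -- make the tangent line `z = 0`
  obtain ⟨B', hB', hB'v, a', c', d', e', h', i', j', hc'⟩ :
      ∃ B' : Mat, IsUnit B'.det ∧ B' *ᵥ ![0, 1, 0] = ![0, 1, 0] ∧ ∃ a' c' d' e' h' i' j' : ℂ,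
        sub B' (sub B p) = cub a' 0 c' d' e' 0 1 h' i' j' := by
    subst hb
    rw [hc]
    by_cases hg : g = 0
    · have hf : f ≠ 0 := hfg.resolve_right (not_not.2 hg)
      subst hg
      refine ⟨!![0, 0, 1/f; 0, 1, 0; 1, 0, 0], ?_, ?_, c, a/f^3, i, h/f, e/f^2, d/f^2, j/f, ?_⟩
      · simp [Matrix.det_fin_three, hf]
      · funext r; fin_cases r <;> simp [Matrix.mulVec, dotProduct, Fin.sum_univ_three]
      · refine MvPolynomial.funext fun x => ?_
        rw [eval_sub, eval_cub, eval_cub]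
        simp [Matrix.mulVec, dotProduct, Fin.sum_univ_three]
        field_simp
        ring
    · refine ⟨!![1, 0, 0; 0, 1, 0; -f/g, 0, 1/g], ?_, ?_, a - c*(f/g)^3 - e*(f/g) + h*(f/g)^2, c/g^3,
        d + i*(f/g)^2 - j*(f/g), e/g + 3*c*(f/g)^2/g - 2*h*(f/g)/g, h/g^2 - 3*c*(f/g)/g^2, i/g^2,
        j/g - 2*i*(f/g)/g, ?_⟩
      · simp [Matrix.det_fin_three, hg]
      · funext r; fin_cases r <;> simp [Matrix.mulVec, dotProduct, Fin.sum_univ_three]
      · refine MvPolynomial.funext fun x => ?_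
        rw [eval_sub, eval_cub, eval_cub]
        simp [Matrix.mulVec, dotProduct, Fin.sum_univ_three]
        field_simp
        ring
  have hd : d' = 0 := by
    have h3 : eval ![0, 1, 0] (hess (sub B' (sub B p))) = 0 := by
      rw [hess_sub, map_mul, eval_sub, hB'v, hH1, mul_zero]
    rw [hc', eval_hess_cub, Matrix.det_fin_three] at h3
    simp at h3
    ring_nf at h3
    simpa using h3
  subst hd
  rw [sub_sub] at hc'
  have hBB : IsUnit (B * B').det := by rw [Matrix.det_mul]; exact hB.mul hB'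
  refine ⟨B * B', a', c', e', 1, h', i', j', hBB, rfl, ?_, hc'⟩
  rintro rfl
  have hs2 := smooth_sub hs hBB
  rw [hc'] at hs2
  obtain ⟨y, hy⟩ := IsAlgClosed.exists_root
    (Polynomial.X ^ 2 + Polynomial.C j' * Polynomial.X + Polynomial.C e' : Polynomial ℂ) (by
      rw [show (Polynomial.X ^ 2 + Polynomial.C j' * Polynomial.X + Polynomial.C e' : Polynomial ℂ).degree = 2 by
        compute_degree!]
      decide)
  have hy' : y ^ 2 + j' * y + e' = 0 := by simpa using hy
  obtain ⟨r, hr⟩ := hs2 ![1, y, 0] (fun h0 => by simpa using congrFun h0 0) (by rw [eval_cub]; simp)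
  apply hr
  obtain ⟨p0, p1, p2⟩ := eval_pderiv_cub ![1, y, 0] 0 0 c' 0 e' 0 1 h' i' j'
  fin_cases r
  · refine p0.trans ?_; simp
  · refine p1.trans ?_; simp
  · refine p2.trans ?_; simp; linear_combination hy'

theorem exists_omega : ∃ w : ℂ, w ^ 3 = 1 ∧ w ≠ 1 ∧ w ^ 2 + w + 1 = 0 := by
  have h := Complex.isPrimitiveRoot_exp 3 (by norm_num)
  refine ⟨_, h.pow_eq_one, h.ne_one (by norm_num), ?_⟩
  set w := Complex.exp (2 * Real.pi * Complex.I / (3 : ℕ))
  have h1 : (w - 1) * (w ^ 2 + w + 1) = 0 := by linear_combination h.pow_eq_one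
  exact (mul_eq_zero.1 h1).resolve_left (sub_ne_zero.2 (h.ne_one (by norm_num)))

theorem exists_hesse {p : P} (hp : p.IsHomogeneous 3) (hs : Smooth p) :
    ∃ (A : Mat) (k c : ℂ), IsUnit A.det ∧ k ^ 3 ≠ 1 ∧ c ≠ 0 ∧
      sub A p = C c * HesseCubic.form k := by
  suffices h : ∃ (A : Mat) (k c : ℂ), IsUnit A.det ∧ c ≠ 0 ∧ sub A p = C c * HesseCubic.form k by
    obtain ⟨A, k, c, hA, hc, he⟩ := h
    exact ⟨A, k, c, hA, pow_three_ne_one_of_smooth (smooth_of_eq hs hA hc he), hc, he⟩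
  obtain ⟨A, a, c, e, g, h, i, j, hA, rfl, ha, hf⟩ := exists_flex_coordinates hp hs
  -- complete the square and scale
  obtain ⟨s, hs2⟩ := IsAlgClosed.exists_pow_nat_eq (-a) (show 0 < 2 by norm_num)
  have hsne : s ≠ 0 := fun h0 => ha (by rw [h0] at hs2; simpa using hs2.symm)
  let B : Mat := !![1, 0, 0; -(j/2), s, -(i/2); 0, 0, 1]
  have hB : IsUnit B.det := by simp [B, Matrix.det_fin_three, hsne]
  obtain ⟨p', q, r, hW⟩ : ∃ p' q r : ℂ, ∀ x : V, eval x (sub (A * B) p) =
      a * (x 0 ^ 3 + p' * x 0 ^ 2 * x 2 + q * x 0 * x 2 ^ 2 + r * x 2 ^ 3 - x 1 ^ 2 * x 2) := by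
    refine ⟨(e - j ^ 2 / 4) / a, (h - i * j / 2) / a, (c - i ^ 2 / 4) / a, fun x => ?_⟩
    rw [← sub_sub, eval_sub, hf, eval_cub]
    simp [B, Matrix.mulVec, dotProduct, Fin.sum_univ_three]
    field_simp
    linear_combination (16 * x 1 ^ 2 * x 2) * hs2
  have hAB : IsUnit (A * B).det := by rw [Matrix.det_mul]; exact hA.mul hB
  obtain ⟨x₀, hx₀⟩ : ∃ x₀ : ℂ, (Polynomial.C (-3 : ℂ) * Polynomial.X ^ 4 +
      Polynomial.C (-4 * p') * Polynomial.X ^ 3 + Polynomial.C (-6 * q) * Polynomial.X ^ 2 +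
      Polynomial.C (-12 * r) * Polynomial.X + Polynomial.C (q ^ 2 - 4 * p' * r)).IsRoot x₀ := by
    refine IsAlgClosed.exists_root _ ?_
    intro hd
    have h4 : (Polynomial.C (-3 : ℂ) * Polynomial.X ^ 4 + Polynomial.C (-4 * p') * Polynomial.X ^ 3 +
      Polynomial.C (-6 * q) * Polynomial.X ^ 2 + Polynomial.C (-12 * r) * Polynomial.X +
      Polynomial.C (q ^ 2 - 4 * p' * r)).coeff 4 = -3 := by
      simp only [Polynomial.coeff_add, Polynomial.coeff_C_mul, Polynomial.coeff_X_pow,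
        Polynomial.coeff_X, Polynomial.coeff_C]
      norm_num
    rw [Polynomial.coeff_eq_zero_of_degree_lt (by rw [hd]; decide)] at h4
    norm_num at h4
  simp at hx₀
  obtain ⟨α, β, h1, h2, h3⟩ : ∃ α β : ℂ, α ^ 2 = p' + 3 * x₀ ∧ 2 * α * β = q - 3 * x₀ ^ 2 ∧
      β ^ 2 = r + x₀ ^ 3 := by
    obtain ⟨α, hα⟩ := IsAlgClosed.exists_pow_nat_eq (p' + 3 * x₀) (show 0 < 2 by norm_num)
    have hdisc : (q - 3 * x₀ ^ 2) ^ 2 = 4 * α ^ 2 * (r + x₀ ^ 3) := by
      rw [hα]; linear_combination hx₀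
    by_cases hα0 : α = 0
    · obtain ⟨β, hβ⟩ := IsAlgClosed.exists_pow_nat_eq (r + x₀ ^ 3) (show 0 < 2 by norm_num)
      refine ⟨α, β, hα, ?_, hβ⟩
      rw [hα0] at hdisc ⊢
      have : q - 3 * x₀ ^ 2 = 0 := eq_zero_of_pow_eq_zero (n := 2) (by rw [hdisc]; ring)
      rw [this]; ring
    · refine ⟨α, (q - 3 * x₀ ^ 2) / (2 * α), hα, by field_simp, ?_⟩
      field_simp
      linear_combination hdisc
  have hW' : ∀ x : V, eval x (sub (A * B) p) = a * ((x 0 - x₀ * x 2) ^ 3 +
      x 2 * ((α * x 0 + β * x 2 - x 1) * (α * x 0 + β * x 2 + x 1))) := fun x => by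
    rw [hW]; linear_combination (-(a * x 0 ^ 2 * x 2)) * h1 + (-(a * x 0 * x 2 ^ 2)) * h2 +
      (-(a * x 2 ^ 3)) * h3
  have hsm := smooth_sub hs hAB
  obtain ⟨w, hw3, hw1, hw⟩ := exists_omega
  by_cases hα : α = 0
  · -- three concurrent lines: Fermat cubic
    subst hα
    have hβ : β ≠ 0 := by
      rintro rfl
      obtain ⟨l, hl⟩ := hsm ![x₀, 0, 1] (fun h0 => by simpa using congrFun h0 2) (by rw [hW']; simp)
      apply hl
      have he : sub (A * B) p = C a * cub 1 0 (-x₀ ^ 3) 0 (-3 * x₀) 0 (-1) (3 * x₀ ^ 2) 0 0 :=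
        MvPolynomial.funext fun x => by rw [hW', map_mul, eval_C, eval_cub]; ring
      rw [he, pderiv_C_mul]
      obtain ⟨p0, p1, p2⟩ := eval_pderiv_cub ![x₀, 0, 1] 1 0 (-x₀ ^ 3) 0 (-3 * x₀) 0 (-1) (3 * x₀ ^ 2) 0 0
      fin_cases l
      · refine (map_mul _ _ _).trans ?_; refine (congrArg _ p0).trans ?_; simp; ring_nf; simp
      · refine (map_mul _ _ _).trans ?_; refine (congrArg _ p1).trans ?_; simp
      · refine (map_mul _ _ _).trans ?_; refine (congrArg _ p2).trans ?_; simp; ring_nf; simp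
    obtain ⟨σ, hσ⟩ := IsAlgClosed.exists_pow_nat_eq (-3 * β ^ 2) (show 0 < 2 by norm_num)
    obtain ⟨ρ, hρ⟩ := IsAlgClosed.exists_pow_nat_eq ((4 * β ^ 2)⁻¹) (show 0 < 3 by norm_num)
    have hσ0 : σ ≠ 0 := fun h0 => hβ (by rw [h0] at hσ; simpa using hσ.symm)
    have hρ0 : ρ ≠ 0 := fun h0 => hβ (by rw [h0] at hρ; simpa using hρ.symm)
    let S : Mat := !![1, x₀ * ρ, x₀ * ρ; 0, σ * ρ, -(σ * ρ); 0, ρ, ρ]
    refine ⟨A * B * S, 0, a, ?_, ha, ?_⟩
    · have hS : S.det = 2 * σ * ρ ^ 2 := by simp [S, Matrix.det_fin_three]; ring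
      rw [Matrix.det_mul, hS]
      exact hAB.mul (isUnit_iff_ne_zero.2 (mul_ne_zero (mul_ne_zero two_ne_zero hσ0) (pow_ne_zero _ hρ0)))
    · refine MvPolynomial.funext fun x => ?_
      rw [← sub_sub, eval_sub, hW', map_mul, eval_C, eval_form]
      simp [S, Matrix.mulVec, dotProduct, Fin.sum_univ_three]
      have h4 : 4 * β ^ 2 * ρ ^ 3 = 1 := by
        rw [hρ, mul_inv_cancel₀ (mul_ne_zero (by norm_num) (pow_ne_zero _ hβ))]
      left
      linear_combination (-(ρ ^ 3 * (x 1 + x 2) * (x 1 - x 2) ^ 2)) * hσ + (x 1 ^ 3 + x 2 ^ 3) * h4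
  · have hu : β / α + x₀ ≠ 0 := by
      intro hu
      have hβ : β = -α * x₀ := by field_simp at hu; linear_combination hu
      obtain ⟨l, hl⟩ := hsm ![x₀, 0, 1] (fun h0 => by simpa using congrFun h0 2) (by
        rw [hW', hβ]; simp)
      apply hl
      have he : sub (A * B) p = C a * cub 1 0 (-x₀ ^ 3 + α ^ 2 * x₀ ^ 2) 0 (-3 * x₀ + α ^ 2) 0 (-1)
          (3 * x₀ ^ 2 - 2 * α ^ 2 * x₀) 0 0 :=
        MvPolynomial.funext fun x => by rw [hW', map_mul, eval_C, eval_cub, hβ]; ring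
      rw [he, pderiv_C_mul]
      obtain ⟨p0, p1, p2⟩ := eval_pderiv_cub ![x₀, 0, 1] 1 0 (-x₀ ^ 3 + α ^ 2 * x₀ ^ 2) 0
        (-3 * x₀ + α ^ 2) 0 (-1) (3 * x₀ ^ 2 - 2 * α ^ 2 * x₀) 0 0
      fin_cases l
      · refine (map_mul _ _ _).trans ?_; refine (congrArg _ p0).trans ?_; simp; ring_nf; simp
      · refine (map_mul _ _ _).trans ?_; refine (congrArg _ p1).trans ?_; simp
      · refine (map_mul _ _ _).trans ?_; refine (congrArg _ p2).trans ?_; simp; ring_nf; simp
    set u := -(β / α + x₀) with hu_def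
    have hu0 : u ≠ 0 := neg_ne_zero.2 hu
    set cc := 1 / (u * (1 / (2 * α)) * (1 / (2 * α))) with hcc
    have hcc0 : cc ≠ 0 := by
      rw [hcc]; simp [hu0, hα]
    -- `(X + Y + Z)^3 + cc XYZ`, then the Fourier transform
    let S : Mat := !![-(β / α) * (1 / u), α⁻¹ / 2 * (2 * α), α⁻¹ / 2 * (2 * α);
      0, -(1 / 2) * (2 * α), 1 / 2 * (2 * α); 1 / u, 0, 0]
    let F : Mat := !![1, 1, 1; 1, w, w ^ 2; 1, w ^ 2, w]
    have hS : ∀ x : V, eval x (sub (A * B * S) p) =
        a * ((x 0 + x 1 + x 2) ^ 3 + cc * (x 0 * x 1 * x 2)) := fun x => by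
      rw [← sub_sub, eval_sub, hW']
      simp [S, Matrix.mulVec, dotProduct, Fin.sum_univ_three, hcc]
      left
      have : u * α + β + α * x₀ = 0 := by rw [hu_def]; field_simp; ring
      field_simp
      have hb : β = -(u * α) - α * x₀ := by linear_combination this
      rw [hb]; ring
    have hSdet : IsUnit S.det := by
      have : S.det = (1 / u) * (2 * α) := by
        simp [S, Matrix.det_fin_three]; field_simp; ring
      rw [this]; exact isUnit_iff_ne_zero.2 (by simp [hu0, hα])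
    have hFdet : IsUnit F.det := by
      have : F.det = 3 * (w ^ 2 - w) := by
        simp [F, Matrix.det_fin_three]
        linear_combination (-w) * hw3
      rw [this]
      refine isUnit_iff_ne_zero.2 (mul_ne_zero three_ne_zero ?_)
      intro h0
      have : w * (w - 1) = 0 := by linear_combination h0
      rcases mul_eq_zero.1 this with h5 | h5
      · rw [h5] at hw3; norm_num at hw3
      · exact hw1 (sub_eq_zero.1 h5)
    have hT : IsUnit (A * B * S * F).det := by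
      rw [Matrix.det_mul, Matrix.det_mul (A * B) S]; exact (hAB.mul hSdet).mul hFdet
    have hF : ∀ x : V, eval x (sub (A * B * S * F) p) =
        a * ((cc + 27) * x 0 ^ 3 + cc * x 1 ^ 3 + cc * x 2 ^ 3 - 3 * cc * (x 0 * x 1 * x 2)) := fun x => by
      rw [← sub_sub, eval_sub, hS]
      simp [F, Matrix.mulVec, dotProduct, Fin.sum_univ_three]
      left
      have e1 : w ^ 2 = -w - 1 := by linear_combination hw
      simp only [e1]
      ring_nf
      simp only [hw3, e1]
      ring_nf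
    have h27 : cc + 27 ≠ 0 := by
      intro h0
      have hsm' := smooth_sub hs hT
      have he : sub (A * B * S * F) p = C a * cub 0 cc cc 0 0 0 0 0 0 (-3 * cc) :=
        MvPolynomial.funext fun x => by rw [hF, map_mul, eval_C, eval_cub, h0]; ring
      rw [he] at hsm'
      obtain ⟨l, hl⟩ := hsm' ![1, 0, 0] (fun h0 => by simpa using congrFun h0 0) (by simp [eval_cub])
      apply hl
      obtain ⟨p0, p1, p2⟩ := eval_pderiv_cub ![1, 0, 0] 0 cc cc 0 0 0 0 0 0 (-3 * cc)
      rw [pderiv_C_mul]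
      fin_cases l
      · refine (map_mul _ _ _).trans ?_; refine (congrArg _ p0).trans ?_; simp
      · refine (map_mul _ _ _).trans ?_; refine (congrArg _ p1).trans ?_; simp
      · refine (map_mul _ _ _).trans ?_; refine (congrArg _ p2).trans ?_; simp
    obtain ⟨ρ, hρ⟩ := IsAlgClosed.exists_pow_nat_eq ((cc + 27) / cc) (show 0 < 3 by norm_num)
    have hρ0 : ρ ≠ 0 := fun h0 => by
      rw [h0] at hρ; exact div_ne_zero h27 hcc0 (by simpa using hρ.symm)
    refine ⟨A * B * S * F * Matrix.diagonal ![1 / ρ, 1, 1], 1 / ρ, a * cc, ?_, mul_ne_zero ha hcc0, ?_⟩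
    · rw [Matrix.det_mul, Matrix.det_diagonal]
      exact hT.mul (isUnit_iff_ne_zero.2 (by simp [Fin.prod_univ_three, hρ0]))
    · refine MvPolynomial.funext fun x => ?_
      rw [← sub_sub, eval_sub, hF, map_mul, eval_C, eval_form]
      simp only [Matrix.mulVec_diagonal]
      have h5 : (cc + 27) * (1 / ρ) ^ 3 = cc := by
        rw [div_pow, one_pow, hρ]; field_simp
      simp only [Matrix.cons_val_zero, Matrix.cons_val_one, Matrix.cons_val, one_mul]
      linear_combination (a * x 0 ^ 3) * h5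

end Groth.Agent.HesseLib
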