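import Mathlib
import Groth.Agent.HesseLib.Forms

/-!
# Flexes and automorphisms of the Hesse cubics
-/

open MvPolynomial Matrix

namespace Groth.Agent.HesseLib

local notation "V" => Fin 3 → ℂ
local notation "P" => MvPolynomial (Fin 3) ℂ
local notation "Mat" => Matrix (Fin 3) (Fin 3) ℂ

theorem isHomogeneous_form (k : ℂ) : (HesseCubic.form k).IsHomogeneous 3 := by
  refine IsHomogeneous.sub (IsHomogeneous.add (IsHomogeneous.add ?_ ?_) ?_) (IsHomogeneous.C_mul ?_ _)
  · simpa using (isHomogeneous_X ℂ (0 : Fin 3)).pow 3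
  · simpa using (isHomogeneous_X ℂ (1 : Fin 3)).pow 3
  · simpa using (isHomogeneous_X ℂ (2 : Fin 3)).pow 3
  · simpa using ((isHomogeneous_X ℂ (0 : Fin 3)).mul (isHomogeneous_X ℂ 1)).mul (isHomogeneous_X ℂ 2)

theorem flex_form_mul_eq_zero {k : ℂ} (hk : k ^ 3 ≠ 1) {v : V}
    (h0 : eval v (HesseCubic.form k) = 0) (hfl : Flex (HesseCubic.form k) v) :
    v 0 * v 1 * v 2 = 0 := by
  have h := hess_eval_eq_zero_of_flex (isHomogeneous_form k) hfl
  rw [hess_form, map_add, map_mul, map_mul, h0, mul_zero, zero_add, eval_C, mul_eq_zero] at h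
  have h216 : (216 : ℂ) * (1 - k ^ 3) ≠ 0 := mul_ne_zero (by norm_num) (sub_ne_zero.2 (Ne.symm hk))
  simpa using h.resolve_left h216

/-- The nine flexes. -/
def NineFlex (v : V) : Prop :=
  ∃ γ c : ℂ, γ ^ 3 = 1 ∧ (v = c • ![0, 1, -γ] ∨ v = c • ![-γ, 0, 1] ∨ v = c • ![1, -γ, 0])

theorem nineFlex_of_flex {k : ℂ} (hk : k ^ 3 ≠ 1) {v : V} (hv : v ≠ 0)
    (h0 : eval v (HesseCubic.form k) = 0) (hfl : Flex (HesseCubic.form k) v) : NineFlex v := by
  have hm := flex_form_mul_eq_zero hk h0 hfl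
  rw [eval_form, hm, mul_zero, sub_zero] at h0
  rcases mul_eq_zero.1 hm with h01 | h2
  · rcases mul_eq_zero.1 h01 with hz | hz
    · have hy : v 1 ≠ 0 := fun h1 => hv (funext fun i => by
        rw [hz, h1] at h0
        have hx : v 2 = 0 := eq_zero_of_pow_eq_zero (n := 3) (by linear_combination h0)
        fin_cases i <;> assumption)
      refine ⟨-(v 2 / v 1), v 1, ?_, Or.inl (funext fun i => ?_)⟩
      · rw [hz] at h0; field_simp; linear_combination -h0
      · fin_cases i <;> simp [hz, mul_div_cancel₀ _ hy]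
    · have hy : v 2 ≠ 0 := fun h1 => hv (funext fun i => by
        rw [hz, h1] at h0
        have hx : v 0 = 0 := eq_zero_of_pow_eq_zero (n := 3) (by linear_combination h0)
        fin_cases i <;> assumption)
      refine ⟨-(v 0 / v 2), v 2, ?_, Or.inr (Or.inl (funext fun i => ?_))⟩
      · rw [hz] at h0; field_simp; linear_combination -h0
      · fin_cases i <;> simp [hz, mul_div_cancel₀ _ hy]
  · have hy : v 0 ≠ 0 := fun h1 => hv (funext fun i => by
      rw [h2, h1] at h0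
      have hx : v 1 = 0 := eq_zero_of_pow_eq_zero (n := 3) (by linear_combination h0)
      fin_cases i <;> assumption)
    refine ⟨-(v 1 / v 0), v 0, ?_, Or.inr (Or.inr (funext fun i => ?_))⟩
    · rw [h2] at h0; field_simp; linear_combination -h0
    · fin_cases i <;> simp [h2, mul_div_cancel₀ _ hy]

theorem flex_smul {f : P} (hf : f.IsHomogeneous 3) {v : V} (hfl : Flex f v) {c : ℂ} (hc : c ≠ 0) :
    Flex f (c • v) := by
  obtain ⟨a, b, cc, d, e, f', g, h, i, j, rfl⟩ := exists_eq_cub hf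
  obtain ⟨w, hw, ht⟩ := hfl
  refine ⟨w, ?_, fun t => ?_⟩
  · rw [LinearIndependent.pair_iff]
    intro x y hxy
    obtain ⟨h1, h2⟩ := (LinearIndependent.pair_iff.1 hw) (x * c) y (by rw [mul_smul]; exact hxy)
    exact ⟨(mul_eq_zero.1 h1).resolve_right hc, h2⟩
  · have h1 := ht (t / c)
    have e1 : c • v + t • w = c • (v + (t / c) • w) := by
      rw [smul_add, smul_smul, mul_div_cancel₀ _ hc]
    have hom : ∀ x : V, eval (c • x) (cub a b cc d e f' g h i j) =
        c ^ 3 * eval x (cub a b cc d e f' g h i j) := fun x => by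
      simp only [eval_cub, Pi.smul_apply, smul_eq_mul]; ring
    rw [e1, hom, h1, ← mul_assoc, ← mul_pow, mul_div_cancel₀ _ hc]

theorem flex_of_nineFlex (k : ℂ) {v : V} (hv : v ≠ 0) (h : NineFlex v) :
    Flex (HesseCubic.form k) v := by
  obtain ⟨γ, c, hγ, h⟩ := h
  have hc : c ≠ 0 := fun hc => hv (by rcases h with h | h | h <;> simp [h, hc])
  rcases h with h | h | h <;> subst h <;> refine flex_smul (isHomogeneous_form k) ?_ hc
  · refine ⟨![1, -k * γ, 0], ?_, fun t => ?_⟩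
    · rw [LinearIndependent.pair_iff]
      intro x y hxy
      have e0 := congrFun hxy 0; have e1 := congrFun hxy 1
      simp at e0 e1
      subst e0; simpa using e1
    · rw [eval_form, eval_form]; simp
      linear_combination (-1 : ℂ) * hγ
  · refine ⟨![0, 1, -k * γ], ?_, fun t => ?_⟩
    · rw [LinearIndependent.pair_iff]
      intro x y hxy
      have e1 := congrFun hxy 1; have e2 := congrFun hxy 2
      simp at e1 e2
      subst e1; simpa using e2
    · rw [eval_form, eval_form]; simp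
      linear_combination (-1 : ℂ) * hγ
  · refine ⟨![-k * γ, 0, 1], ?_, fun t => ?_⟩
    · rw [LinearIndependent.pair_iff]
      intro x y hxy
      have e0 := congrFun hxy 0; have e2 := congrFun hxy 2
      simp at e0 e2
      subst e2; simpa using e0
    · rw [eval_form, eval_form]; simp
      linear_combination (-1 : ℂ) * hγ

/-- A monomial automorphism of `h_k` moving `(0,1,-1)` to a given flex. -/
theorem exists_moving (k : ℂ) {v : V} (h : NineFlex v) :
    ∃ (M : Mat) (c : ℂ), IsUnit M.det ∧ sub M (HesseCubic.form k) = HesseCubic.form k ∧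
      v = c • (M *ᵥ ![0, 1, -1]) := by
  obtain ⟨γ, c, hγ, h⟩ := h
  have hγ0 : γ ≠ 0 := fun h0 => by rw [h0] at hγ; norm_num at hγ
  rcases h with h | h | h
  · refine ⟨Matrix.diagonal ![1, γ, γ ^ 2], c / γ, ?_, ?_, ?_⟩
    · rw [Matrix.det_diagonal]; simp [Fin.prod_univ_three, hγ0]
    · refine MvPolynomial.funext fun x => ?_
      rw [eval_sub, eval_form, eval_form]
      simp only [Matrix.mulVec_diagonal, Matrix.cons_val_zero, Matrix.cons_val_one, Matrix.cons_val]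
      linear_combination (x 1 ^ 3 + (γ ^ 3 + 1) * x 2 ^ 3 - 3 * k * (x 0 * x 1 * x 2)) * hγ
    · subst h; funext i
      simp only [Pi.smul_apply, smul_eq_mul, Matrix.mulVec_diagonal]
      fin_cases i <;> simp <;> field_simp
  · refine ⟨!![0, 0, γ ^ 2; 1, 0, 0; 0, γ, 0], c / γ, ?_, ?_, ?_⟩
    · simp [Matrix.det_fin_three, hγ0]
    · refine MvPolynomial.funext fun x => ?_
      rw [eval_sub, eval_form, eval_form]
      simp [Matrix.mulVec, dotProduct, Fin.sum_univ_three]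
      linear_combination (x 1 ^ 3 + (γ ^ 3 + 1) * x 2 ^ 3 - 3 * k * (x 0 * x 1 * x 2)) * hγ
    · subst h; funext i
      fin_cases i <;> simp [Matrix.mulVec, dotProduct, Fin.sum_univ_three] <;> field_simp
  · refine ⟨!![0, γ, 0; 0, 0, γ ^ 2; 1, 0, 0], c / γ, ?_, ?_, ?_⟩
    · simp [Matrix.det_fin_three, hγ0]
    · refine MvPolynomial.funext fun x => ?_
      rw [eval_sub, eval_form, eval_form]
      simp [Matrix.mulVec, dotProduct, Fin.sum_univ_three]
      linear_combination (x 1 ^ 3 + (γ ^ 3 + 1) * x 2 ^ 3 - 3 * k * (x 0 * x 1 * x 2)) * hγ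
    · subst h; funext i
      fin_cases i <;> simp [Matrix.mulVec, dotProduct, Fin.sum_univ_three] <;> field_simp

theorem exists_aut_of_flex {p : P} (hp : p.IsHomogeneous 3) (hs : Smooth p) {v v' : V}
    (hv : v ≠ 0) (hv' : v' ≠ 0) (h0 : eval v p = 0) (h0' : eval v' p = 0)
    (hfl : Flex p v) (hfl' : Flex p v') :
    ∃ (A : Mat) (c d : ℂ), IsUnit A.det ∧ sub A p = C c * p ∧ A *ᵥ v = d • v' := by
  obtain ⟨B, k, c, hB, hk, hc, hBp⟩ := exists_hesse hp hs
  have hinv := sub_inv_eq hB hc hBp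
  have hBi : IsUnit B⁻¹.det := Matrix.isUnit_nonsing_inv_det B hB
  have key : ∀ u : V, u ≠ 0 → eval u p = 0 → Flex p u → ∃ (M : Mat) (e : ℂ), e ≠ 0 ∧ IsUnit M.det ∧
      sub M (HesseCubic.form k) = HesseCubic.form k ∧ B⁻¹ *ᵥ u = e • (M *ᵥ ![0, 1, -1]) := by
    intro u hu hu0 hufl
    have hne : B⁻¹ *ᵥ u ≠ 0 := fun h => hu (by
      have h1 := congrArg (B *ᵥ ·) h
      simp only [Matrix.mulVec_mulVec, Matrix.mul_nonsing_inv B hB, Matrix.one_mulVec,
        Matrix.mulVec_zero] at h1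
      exact h1)
    have h1 : eval (B⁻¹ *ᵥ u) (HesseCubic.form k) = 0 := by
      rw [← eval_sub, hinv, map_mul, hu0, mul_zero]
    obtain ⟨M, e, hM, hMf, he⟩ :=
      exists_moving k (nineFlex_of_flex hk hne h1 (flex_map hBi hinv hufl))
    exact ⟨M, e, fun h => hne (by rw [he, h, zero_smul]), hM, hMf, he⟩
  obtain ⟨M, e, he, hM, hMf, hMv⟩ := key v hv h0 hfl
  obtain ⟨M', e', he', hM', hMf', hMv'⟩ := key v' hv' h0' hfl'
  refine ⟨B * M' * M⁻¹ * B⁻¹, 1, e / e', ?_, ?_, ?_⟩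
  · simp only [Matrix.det_mul]
    exact (((hB.mul hM').mul (Matrix.isUnit_nonsing_inv_det M hM)).mul hBi)
  · rw [← sub_sub, ← sub_sub, ← sub_sub, hBp, map_mul, sub_C, hMf', map_mul, sub_C]
    have hMi : sub M⁻¹ (HesseCubic.form k) = HesseCubic.form k := by
      conv_lhs => rw [← hMf, sub_sub, Matrix.mul_nonsing_inv M hM, sub_one]
    rw [hMi, map_mul, sub_C, hinv, ← mul_assoc, ← map_mul, mul_inv_cancel₀ hc, map_one]
  · rw [← Matrix.mulVec_mulVec, hMv, Matrix.mulVec_smul, Matrix.mulVec_mulVec, Matrix.mul_assoc,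
      Matrix.nonsing_inv_mul M hM, Matrix.mul_one, ← Matrix.mulVec_mulVec]
    have h1 : M' *ᵥ ![0, 1, -1] = e'⁻¹ • (B⁻¹ *ᵥ v') := by
      rw [hMv', smul_smul, inv_mul_cancel₀ he', one_smul]
    rw [h1, Matrix.mulVec_smul, Matrix.mulVec_mulVec, Matrix.mul_nonsing_inv B hB, Matrix.one_mulVec,
      smul_smul, div_eq_mul_inv]

theorem eq_scalar_of_eigen (N : Mat) {w d1 d2 d3 d4 d6 : ℂ} (hw1 : w ≠ 1)
    (e1 : N *ᵥ ![0, 1, -1] = d1 • ![0, 1, -1]) (e2 : N *ᵥ ![0, 1, -w] = d2 • ![0, 1, -w])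
    (e3 : N *ᵥ ![-1, 0, 1] = d3 • ![-1, 0, 1]) (e4 : N *ᵥ ![1, -1, 0] = d4 • ![1, -1, 0])
    (e6 : N *ᵥ ![-w, 0, 1] = d6 • ![-w, 0, 1]) : N = d1 • (1 : Mat) := by
  simp [funext_iff, Fin.forall_fin_succ, Matrix.mulVec, dotProduct, Fin.sum_univ_three] at e1 e2 e3 e4 e6
  obtain ⟨a0, a1, a2⟩ := e1
  obtain ⟨b0, b1, b2⟩ := e2
  obtain ⟨c0, c1, c2⟩ := e3
  obtain ⟨f0, f1, f2⟩ := e4
  obtain ⟨g0, g1, g2⟩ := e6
  have hw' : (1 - w) ≠ 0 := sub_ne_zero.2 (Ne.symm hw1)
  have n01 : N 0 1 = 0 := (mul_eq_zero.1 (show (1 - w) * N 0 1 = 0 by linear_combination b0 - w * a0)).resolve_left hw'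
  have n02 : N 0 2 = 0 := by linear_combination n01 - a0
  have n10 : N 1 0 = 0 := (mul_eq_zero.1 (show (1 - w) * N 1 0 = 0 by linear_combination g1 - c1)).resolve_left hw'
  have n12 : N 1 2 = 0 := by linear_combination n10 + c1
  have n11 : N 1 1 = d1 := by linear_combination a1 + n12
  have n20' : N 2 0 = N 2 1 := by linear_combination f2
  have n22' : N 2 2 = d1 + N 2 0 := by linear_combination (-1 : ℂ) * a2 - n20'
  have hd2 : d2 = d1 := by linear_combination (-1 : ℂ) * b1 + n11 - w * n12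
  have n20 : N 2 0 = 0 := (mul_eq_zero.1 (show (1 - w) * N 2 0 = 0 by
    linear_combination b2 + n20' + w * n22' - w * hd2)).resolve_left hw'
  have n21 : N 2 1 = 0 := by linear_combination n20 - n20'
  have n22 : N 2 2 = d1 := by linear_combination n22' + n20
  have hd4 : d4 = d1 := by linear_combination f1 - n10 + n11
  have n00 : N 0 0 = d1 := by linear_combination f0 + n01 + hd4
  refine Matrix.ext fun i j => ?_
  fin_cases i <;> fin_cases j <;> simp [Matrix.one_apply] <;> assumption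

theorem eq_scalar_of_fix_flexes {p : P} (hp : p.IsHomogeneous 3) (hs : Smooth p) {A : Mat}
    (hfix : ∀ v : V, v ≠ 0 → eval v p = 0 → Flex p v → ∃ d : ℂ, A *ᵥ v = d • v) :
    ∃ c : ℂ, A = c • (1 : Mat) := by
  obtain ⟨B, k, c, hB, hk, hc, hBp⟩ := exists_hesse hp hs
  obtain ⟨w, hw3, hw1, hw⟩ := exists_omega
  let N : Mat := B⁻¹ * A * B
  have key : ∀ u : V, NineFlex u → u ≠ 0 → ∃ d : ℂ, N *ᵥ u = d • u := by
    intro u hu hu0
    have hne : B *ᵥ u ≠ 0 := fun h => hu0 (by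
      have h1 := congrArg (B⁻¹ *ᵥ ·) h
      simp only [Matrix.mulVec_mulVec, Matrix.nonsing_inv_mul B hB, Matrix.one_mulVec,
        Matrix.mulVec_zero] at h1
      exact h1)
    have hfl := flex_of_nineFlex k hu0 hu
    have h1 : eval (B *ᵥ u) p = 0 := by
      rw [← eval_sub, hBp, map_mul]
      obtain ⟨w', -, ht⟩ := hfl
      have := ht 0
      simp at this
      simp [this]
    obtain ⟨d, hd⟩ := hfix _ hne h1 (flex_map hB hBp hfl)
    refine ⟨d, ?_⟩
    show (B⁻¹ * A * B) *ᵥ u = _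
    rw [← Matrix.mulVec_mulVec, ← Matrix.mulVec_mulVec, hd, Matrix.mulVec_smul, Matrix.mulVec_mulVec,
      Matrix.nonsing_inv_mul B hB, Matrix.one_mulVec]
  have hne1 : ∀ a b : ℂ, (![a, 1, b] : V) ≠ 0 := fun a b h => by simpa using congrFun h 1
  obtain ⟨d1, e1⟩ := key ![0, 1, -1] ⟨1, 1, one_pow _, Or.inl (by simp)⟩ (hne1 0 _)
  obtain ⟨d2, e2⟩ := key ![0, 1, -w] ⟨w, 1, hw3, Or.inl (by simp)⟩ (hne1 0 _)
  obtain ⟨d3, e3⟩ := key ![-1, 0, 1] ⟨1, 1, one_pow _, Or.inr (Or.inl (by simp))⟩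
    (fun h => by simpa using congrFun h 2)
  obtain ⟨d4, e4⟩ := key ![1, -1, 0] ⟨1, 1, one_pow _, Or.inr (Or.inr (by simp))⟩
    (fun h => by simpa using congrFun h 0)
  obtain ⟨d6, e6⟩ := key ![-w, 0, 1] ⟨w, 1, hw3, Or.inr (Or.inl (by simp))⟩
    (fun h => by simpa using congrFun h 2)
  have hN := eq_scalar_of_eigen N hw1 e1 e2 e3 e4 e6
  refine ⟨d1, ?_⟩
  calc A = B * N * B⁻¹ := by
        show A = B * (B⁻¹ * A * B) * B⁻¹
        simp only [← Matrix.mul_assoc, Matrix.mul_nonsing_inv B hB, Matrix.one_mul]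
        rw [Matrix.mul_assoc, Matrix.mul_nonsing_inv B hB, Matrix.mul_one]
    _ = d1 • (1 : Mat) := by
        rw [hN, Matrix.mul_smul, Matrix.mul_one, Matrix.smul_mul, Matrix.mul_nonsing_inv B hB]

end Groth.Agent.HesseLib
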