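import Mathlib
import Groth.Agent.HesseLib.Forms

/-!
# The projective automorphisms of a general Hesse cubic
-/

open MvPolynomial Matrix

namespace Groth.Agent.HesseLib

local notation "V" => Fin 3 → ℂ
local notation "P" => MvPolynomial (Fin 3) ℂ
local notation "Mat" => Matrix (Fin 3) (Fin 3) ℂ

theorem eval_xyz (v : V) : eval v (X 0 * X 1 * X 2 : P) = v 0 * v 1 * v 2 := by simp

theorem cub_xyz : (X 0 * X 1 * X 2 : P) = cub 0 0 0 0 0 0 0 0 0 1 := by simp [cub]

theorem not_smooth_xyz : ¬ Smooth (X 0 * X 1 * X 2 : P) := by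
  intro h
  obtain ⟨i, hi⟩ := h ![1, 0, 0] (fun h0 => by simpa using congrFun h0 0) (by simp)
  apply hi
  rw [cub_xyz]
  obtain ⟨p0, p1, p2⟩ := eval_pderiv_cub ![1, 0, 0] 0 0 0 0 0 0 0 0 0 1
  fin_cases i
  · exact p0.trans (by simp)
  · exact p1.trans (by simp)
  · exact p2.trans (by simp)

theorem not_smooth_sub_xyz {A : Mat} (hA : IsUnit A.det) {c : ℂ} (hc : c ≠ 0) {g : P}
    (h : sub A (X 0 * X 1 * X 2) = C c * g) : ¬ Smooth g := fun hg => by
  refine not_smooth_xyz ?_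
  have := sub_inv_eq hA hc h
  exact smooth_of_eq hg (Matrix.isUnit_nonsing_inv_det A hA) (inv_ne_zero hc) this

/-- A pencil member that is singular. -/
theorem singular_pencil {a b : ℂ} (h : ¬ Smooth (C a * (X 0 ^ 3 + X 1 ^ 3 + X 2 ^ 3) +
    C b * (X 0 * X 1 * X 2) : P)) : a = 0 ∨ ∃ ζ : ℂ, ζ ^ 3 = 1 ∧ b = -(3 * a * ζ) := by
  by_cases ha : a = 0
  · exact Or.inl ha
  refine Or.inr ⟨-b / (3 * a), by_contra fun h3 => h ?_, by field_simp⟩
  have he : (C a * (X 0 ^ 3 + X 1 ^ 3 + X 2 ^ 3) + C b * (X 0 * X 1 * X 2) : P) =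
      C a * HesseCubic.form (-b / (3 * a)) := MvPolynomial.funext fun x => by
    simp only [map_add, map_mul, map_pow, eval_C, eval_X, eval_form]
    field_simp
    ring
  rw [he]
  exact smooth_C_mul (smooth_form h3) ha

/-- Roots of `1`. -/
noncomputable def mu3 : Finset ℂ := (Polynomial.nthRoots 3 (1 : ℂ)).toFinset

theorem mem_mu3 {z : ℂ} : z ∈ mu3 ↔ z ^ 3 = 1 := by
  rw [mu3, Multiset.mem_toFinset, Polynomial.mem_nthRoots (by norm_num)]

/-- Bad parameters attached to a pair of distinct roots of unity. -/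
noncomputable def badPoly₁ (i j ζ η : ℂ) : Polynomial ℂ :=
  (Polynomial.X - Polynomial.C i) * (Polynomial.X - Polynomial.C ζ) -
    (Polynomial.X - Polynomial.C j) * Polynomial.C (η - ζ)

noncomputable def badPoly₂ (i j ζ ζ' η : ℂ) : Polynomial ℂ :=
  (Polynomial.X - Polynomial.C i) * Polynomial.C (η - ζ) * (Polynomial.X - Polynomial.C ζ') -
    (Polynomial.X - Polynomial.C j) * Polynomial.C (η - ζ') * (Polynomial.X - Polynomial.C ζ)

/-- The excluded parameters. -/
noncomputable def bad : Finset ℂ :=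
  insert 0 (mu3 ∪ mu3.biUnion fun i => mu3.biUnion fun j => mu3.biUnion fun ζ => mu3.biUnion fun η =>
    (badPoly₁ i j ζ η).roots.toFinset ∪ mu3.biUnion fun ζ' => (badPoly₂ i j ζ ζ' η).roots.toFinset)

theorem mem_bad₁ {k i j ζ η : ℂ} (hi : i ^ 3 = 1) (hj : j ^ 3 = 1) (hζ : ζ ^ 3 = 1) (hη : η ^ 3 = 1)
    (h : (k - i) * (k - ζ) = (k - j) * (η - ζ)) : k ∈ bad := by
  have hne : badPoly₁ i j ζ η ≠ 0 := by
    intro h0
    have := congrArg (Polynomial.coeff · 2) h0
    rw [show badPoly₁ i j ζ η = Polynomial.X ^ 2 - Polynomial.C (i + ζ + (η - ζ)) * Polynomial.X +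
      Polynomial.C (i * ζ + j * (η - ζ)) by
      simp only [badPoly₁, map_add, map_mul, map_sub]; ring] at this
    simp [Polynomial.coeff_X, Polynomial.coeff_C] at this
  have hroot : k ∈ (badPoly₁ i j ζ η).roots.toFinset := by
    rw [Multiset.mem_toFinset, Polynomial.mem_roots hne]
    simp [badPoly₁, h]
  simp only [bad, Finset.mem_insert, Finset.mem_union, Finset.mem_biUnion]
  exact Or.inr (Or.inr ⟨i, mem_mu3.2 hi, j, mem_mu3.2 hj, ζ, mem_mu3.2 hζ, η, mem_mu3.2 hη, Or.inl hroot⟩)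

theorem mem_bad₂ {k i j ζ ζ' η : ℂ} (hi : i ^ 3 = 1) (hj : j ^ 3 = 1) (hζ : ζ ^ 3 = 1)
    (hζ' : ζ' ^ 3 = 1) (hη : η ^ 3 = 1) (hne : ζ ≠ ζ')
    (h : (k - i) * (η - ζ) * (k - ζ') = (k - j) * (η - ζ') * (k - ζ)) : k ∈ bad := by
  have hne0 : badPoly₂ i j ζ ζ' η ≠ 0 := by
    intro h0
    have := congrArg (Polynomial.coeff · 2) h0
    rw [show badPoly₂ i j ζ ζ' η = Polynomial.C (ζ' - ζ) * Polynomial.X ^ 2 +
      Polynomial.C (-(i + ζ') * (η - ζ) + (j + ζ) * (η - ζ')) * Polynomial.X +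
      Polynomial.C (i * ζ' * (η - ζ) - j * ζ * (η - ζ')) by
      simp only [badPoly₂, map_add, map_mul, map_sub, map_neg]; ring] at this
    simp only [Polynomial.coeff_add, Polynomial.coeff_C_mul, Polynomial.coeff_X_pow, Polynomial.coeff_X,
      Polynomial.coeff_C, Polynomial.coeff_zero] at this
    norm_num at this
    exact hne (by linear_combination (-1 : ℂ) * this)
  have hroot : k ∈ (badPoly₂ i j ζ ζ' η).roots.toFinset := by
    rw [Multiset.mem_toFinset, Polynomial.mem_roots hne0]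
    simp [badPoly₂, h]
  simp only [bad, Finset.mem_insert, Finset.mem_union, Finset.mem_biUnion]
  exact Or.inr (Or.inr ⟨i, mem_mu3.2 hi, j, mem_mu3.2 hj, ζ, mem_mu3.2 hζ, η, mem_mu3.2 hη,
    Or.inr ⟨ζ', mem_mu3.2 hζ', hroot⟩⟩)

theorem exists_triangle {k : ℂ} (hk : k ∉ bad) {A : Mat} {c : ℂ} (hA : IsUnit A.det) (hc : c ≠ 0)
    (hf : sub A (HesseCubic.form k) = C c * HesseCubic.form k) :
    ∃ b : ℂ, b ≠ 0 ∧ sub A (X 0 * X 1 * X 2) = C b * (X 0 * X 1 * X 2) := by
  have hk0 : k ≠ 0 := fun h => hk (by simp [bad, h])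
  have hk3 : k ^ 3 ≠ 1 := fun h => hk (by simp [bad, mem_mu3, h])
  -- the image of the triangle lies in the pencil
  have hh := hess_sub A (HesseCubic.form k)
  rw [hf, hess_C_mul, hess_form] at hh
  have hdet : A.det ^ 2 ≠ 0 := pow_ne_zero _ hA.ne_zero
  have hK : 216 * (1 - k ^ 3) ≠ 0 := mul_ne_zero (by norm_num) (sub_ne_zero.2 (Ne.symm hk3))
  obtain ⟨a, b, hab⟩ : ∃ a b : ℂ, sub A (X 0 * X 1 * X 2) =
      C a * (X 0 ^ 3 + X 1 ^ 3 + X 2 ^ 3) + C b * (X 0 * X 1 * X 2) := by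
    let K := A.det ^ 2 * (216 * (1 - k ^ 3))
    let a := (c ^ 3 * -(54 * k ^ 2) + A.det ^ 2 * (54 * k ^ 2) * c) / K
    let e := c ^ 3 * (216 * (1 - k ^ 3)) / K
    refine ⟨a, e - 3 * k * a, MvPolynomial.funext fun x => ?_⟩
    have h1 := congrArg (eval x) hh
    have h2 := congrArg (eval x) hf
    simp only [map_add, map_mul, map_pow, eval_C, eval_X, eval_form, eval_sub] at h1 h2 ⊢
    have hd := hA.ne_zero
    have hk' : 1 - k ^ 3 ≠ 0 := sub_ne_zero.2 (Ne.symm hk3)
    simp only [a, e, K]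
    field_simp
    linear_combination (-1 : ℂ) * h1 + (A.det ^ 2 * (54 * k ^ 2)) * h2
  by_cases ha : a = 0
  · subst ha
    have hb : b ≠ 0 := fun hb => by
      have h1 := congrArg (eval (A⁻¹ *ᵥ ![1, 1, 1])) hab
      rw [eval_sub, Matrix.mulVec_mulVec, Matrix.mul_nonsing_inv A hA, Matrix.one_mulVec, hb] at h1
      simp at h1
    exact ⟨b, hb, by rw [hab, map_zero, zero_mul, zero_add]⟩
  exfalso
  have hsing : ¬ Smooth (C a * (X 0 ^ 3 + X 1 ^ 3 + X 2 ^ 3) + C b * (X 0 * X 1 * X 2) : P) :=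
    not_smooth_sub_xyz hA one_ne_zero (by rw [map_one, one_mul, hab])
  obtain ⟨η, hη, hb⟩ := (singular_pencil hsing).resolve_left ha
  have hj : ∀ j : ℂ, j ^ 3 = 1 → c + 3 * a * (k - j) = 0 ∨
      ∃ ζ : ℂ, ζ ^ 3 = 1 ∧ c * k + 3 * a * η * (k - j) = ζ * (c + 3 * a * (k - j)) := by
    intro j hj
    have hns : ¬ Smooth (C (c + 3 * a * (k - j)) * (X 0 ^ 3 + X 1 ^ 3 + X 2 ^ 3) +
        C (-(3 * (c * k + 3 * a * η * (k - j)))) * (X 0 * X 1 * X 2) : P) := by
      intro hsm
      have he : sub A (HesseCubic.form j) = C 1 * (C (c + 3 * a * (k - j)) * (X 0 ^ 3 + X 1 ^ 3 + X 2 ^ 3) +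
          C (-(3 * (c * k + 3 * a * η * (k - j)))) * (X 0 * X 1 * X 2)) := by
        refine MvPolynomial.funext fun x => ?_
        have h1 := congrArg (eval x) hf
        have h2 := congrArg (eval x) hab
        rw [eval_sub, map_mul, eval_C, eval_form, eval_form] at h1
        rw [eval_sub, eval_form]
        simp only [map_add, map_mul, map_pow, eval_C, eval_X, eval_sub] at h2 ⊢
        linear_combination h1 + 3 * (k - j) * h2 + 3 * (k - j) * (x 0 * x 1 * x 2) * hb
      have hsm' : Smooth (HesseCubic.form j) :=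
        smooth_of_eq hsm (Matrix.isUnit_nonsing_inv_det A hA) (inv_ne_zero one_ne_zero)
          (sub_inv_eq hA one_ne_zero he)
      exact pow_three_ne_one_of_smooth hsm' hj
    rcases singular_pencil hns with h | ⟨ζ, hζ, h⟩
    · exact Or.inl h
    · exact Or.inr ⟨ζ, hζ, by linear_combination (-1/3 : ℂ) * h⟩
  obtain ⟨w, hw3, hw1, -⟩ := exists_omega
  have hone : (1 : ℂ) ^ 3 = 1 := one_pow _
  rcases hj 1 hone with h1 | ⟨ζ, hζ, h1⟩ <;> rcases hj w hw3 with h2 | ⟨ζ', hζ', h2⟩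
  · have : a * (w - 1) = 0 := by linear_combination (1/3 : ℂ) * h1 - (1/3 : ℂ) * h2
    exact (mul_ne_zero ha (sub_ne_zero.2 hw1)) this
  · refine hk (mem_bad₁ (i := 1) (j := w) hone hw3 hζ' hη ?_)
    have : a * ((k - 1) * (k - ζ') - (k - w) * (η - ζ')) = 0 := by
      linear_combination ((k - ζ') / 3) * h1 - (1/3 : ℂ) * h2
    exact sub_eq_zero.1 ((mul_eq_zero.1 this).resolve_left ha)
  · refine hk (mem_bad₁ (i := w) (j := 1) hw3 hone hζ hη ?_)
    have : a * ((k - w) * (k - ζ) - (k - 1) * (η - ζ)) = 0 := by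
      linear_combination ((k - ζ) / 3) * h2 - (1/3 : ℂ) * h1
    exact sub_eq_zero.1 ((mul_eq_zero.1 this).resolve_left ha)
  · by_cases he : ζ = ζ'
    · subst he
      have : a * (η - ζ) * (w - 1) = 0 := by linear_combination (1/3 : ℂ) * h1 - (1/3 : ℂ) * h2
      have hηζ : η = ζ := sub_eq_zero.1
        ((mul_eq_zero.1 ((mul_eq_zero.1 this).resolve_right (sub_ne_zero.2 hw1))).resolve_left ha)
      subst hηζ
      have : c * (k - η) = 0 := by linear_combination h1
      have hkη : k = η := sub_eq_zero.1 ((mul_eq_zero.1 this).resolve_left hc)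
      exact hk3 (hkη ▸ hη)
    · refine hk (mem_bad₂ (i := 1) (j := w) hone hw3 hζ hζ' hη he ?_)
      have : a * ((k - 1) * (η - ζ) * (k - ζ') - (k - w) * (η - ζ') * (k - ζ)) = 0 := by
        linear_combination ((k - ζ') / 3) * h1 - ((k - ζ) / 3) * h2
      exact sub_eq_zero.1 ((mul_eq_zero.1 this).resolve_left ha)

theorem exists_monomial {A : Mat} (hA : A.det ≠ 0) {b : ℂ}
    (h : sub A (X 0 * X 1 * X 2) = C b * (X 0 * X 1 * X 2)) :
    ∃ (σ : Equiv.Perm (Fin 3)) (d : Fin 3 → ℂ), A = (σ.permMatrix ℂ) * Matrix.diagonal d := by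
  have hev : ∀ v : V, (A *ᵥ v) 0 * (A *ᵥ v) 1 * (A *ᵥ v) 2 = b * (v 0 * v 1 * v 2) := fun v => by
    have := congrArg (eval v) h
    rwa [eval_sub, map_mul (eval v) (C b), eval_C, eval_xyz, eval_xyz] at this
  -- every row has at most one non-zero entry
  have hrow : ∀ i j l : Fin 3, j ≠ l → A i j = 0 ∨ A i l = 0 := by
    intro i j l hjl
    by_contra hne
    push Not at hne
    obtain ⟨hj, hl⟩ := hne
    have hex : ∃ m : Fin 3, m ≠ j ∧ m ≠ l :=
      (by decide : ∀ a b : Fin 3, a ≠ b → ∃ m : Fin 3, m ≠ a ∧ m ≠ b) j l hjl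
    obtain ⟨m, hmj, hml⟩ := hex
    -- a point of the line `row i = 0` off the coordinate triangle
    obtain ⟨t, ht1, ht2⟩ : ∃ t : ℂ, t ≠ 0 ∧ A i j * t + A i m ≠ 0 := by
      by_cases h1 : A i j * 1 + A i m = 0
      · refine ⟨2, two_ne_zero, fun h2 => hj ?_⟩
        linear_combination h2 - h1
      · exact ⟨1, one_ne_zero, h1⟩
    let v : V := Function.update (Function.update (fun _ => (1 : ℂ)) j t) l
      (-(A i j * t + A i m) / A i l)
    have hvj : v j = t := by simp [v, hjl]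
    have hvl : v l = -(A i j * t + A i m) / A i l := by simp [v]
    have hvm : v m = 1 := by simp [v, hmj, hml]
    have huniv : (Finset.univ : Finset (Fin 3)) = {j, l, m} :=
      (by decide : ∀ a b e : Fin 3, a ≠ b → e ≠ a → e ≠ b → (Finset.univ : Finset (Fin 3)) = {a, b, e})
        j l m hjl hmj hml
    have hz : (A *ᵥ v) i = 0 := by
      rw [Matrix.mulVec, dotProduct, huniv, Finset.sum_insert (by simp [hjl, Ne.symm hmj]),
        Finset.sum_insert (by simp [Ne.symm hml]), Finset.sum_singleton, hvj, hvl, hvm]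
      field_simp
      ring
    have hb : b ≠ 0 := by
      intro hb
      have hinv : A *ᵥ (A⁻¹ *ᵥ ![1, 1, 1]) = ![1, 1, 1] := by
        rw [Matrix.mulVec_mulVec, Matrix.mul_nonsing_inv A (isUnit_iff_ne_zero.2 hA), Matrix.one_mulVec]
      have h2 := hev (A⁻¹ *ᵥ ![1, 1, 1])
      rw [hinv, hb] at h2
      simp at h2
    have hnz : ∀ r, v r ≠ 0 := fun r => by
      have : r = j ∨ r = l ∨ r = m := by
        have := Finset.mem_univ r; rw [huniv] at this; simpa using this
      rcases this with rfl | rfl | rfl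
      · rw [hvj]; exact ht1
      · rw [hvl]; exact div_ne_zero (neg_ne_zero.2 ht2) hl
      · rw [hvm]; exact one_ne_zero
    have := hev v
    have hzero : (A *ᵥ v) 0 * (A *ᵥ v) 1 * (A *ᵥ v) 2 = 0 := by
      fin_cases i <;> simp at hz <;> simp [hz]
    rw [hzero] at this
    simp [hb, hnz] at this
  have hne : ∀ i, ∃ j, A i j ≠ 0 := fun i => by
    by_contra h0
    push Not at h0
    exact hA (Matrix.det_eq_zero_of_row_eq_zero i h0)
  choose τ hτ using hne
  have hzero : ∀ i j, j ≠ τ i → A i j = 0 := fun i j hj =>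
    (hrow i j (τ i) hj).resolve_right (hτ i)
  have hinj : Function.Injective τ := by
    intro i i' hii
    by_contra hne
    let c := A i' (τ i') / A i (τ i)
    have hrow' : A i' = c • A i := funext fun j => by
      by_cases hj : j = τ i'
      · subst hj; show _ = c * A i (τ i'); rw [← hii, div_mul_cancel₀ _ (hτ i), hii]
      · show A i' j = c * A i j
        rw [hzero i' j hj, hzero i j (hii ▸ hj), mul_zero]
    apply hA
    rw [← Matrix.det_updateRow_add_smul_self A (Ne.symm hne) (-c)]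
    refine Matrix.det_eq_zero_of_row_eq_zero i' fun j => ?_
    rw [Matrix.updateRow_self]
    simp [hrow']
  let σ : Equiv.Perm (Fin 3) := Equiv.ofBijective τ (Finite.injective_iff_bijective.1 hinj)
  refine ⟨σ, fun j => A (σ.symm j) j, ?_⟩
  refine Matrix.ext fun i j => ?_
  rw [Matrix.mul_diagonal, Equiv.Perm.permMatrix, PEquiv.toMatrix_apply]
  by_cases hj : j = σ i
  · subst hj; simp
  · rw [hzero i j hj]
    simp [Ne.symm hj]

theorem card_auts {k : ℂ} (hk : k ∉ bad) :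
    Nat.card {A : Mat // A.det = 1 ∧ ∃ c : ℂ, sub A (HesseCubic.form k) = C c * HesseCubic.form k} = 54 := by
  classical
  have hk0 : k ≠ 0 := fun h => hk (by simp [bad, h])
  obtain ⟨w, hw3, hw1, hw⟩ := exists_omega
  let s : Equiv.Perm (Fin 3) → ℂ := fun σ => ((Equiv.Perm.sign σ : ℤ) : ℂ)
  have hs : ∀ σ, s σ * s σ = 1 := fun σ => by
    rcases Int.units_eq_one_or (Equiv.Perm.sign σ) with h | h <;> simp [s, h]
  let D : Equiv.Perm (Fin 3) × Fin 3 × Fin 3 → Fin 3 → ℂ := fun z =>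
    ![s z.1 * w ^ (z.2.1 : ℕ), s z.1 * w ^ (z.2.2 : ℕ), s z.1 * (w ^ 2) ^ ((z.2.1 : ℕ) + z.2.2)]
  let M : Equiv.Perm (Fin 3) × Fin 3 × Fin 3 → Mat := fun z => z.1.permMatrix ℂ * Matrix.diagonal (D z)
  have hw6 : ∀ n : ℕ, (w ^ n) ^ 3 = 1 := fun n => by rw [← pow_mul, mul_comm, pow_mul, hw3, one_pow]
  have hprod : ∀ z, D z 0 * D z 1 * D z 2 = s z.1 := fun z => by
    simp only [D, Matrix.cons_val_zero, Matrix.cons_val_one, Matrix.cons_val]
    calc _ = (s z.1 * s z.1) * s z.1 * (w ^ 3) ^ ((z.2.1 : ℕ) + z.2.2) := by ring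
      _ = s z.1 := by rw [hs, hw3, one_pow, one_mul, mul_one]
  have hD3 : ∀ z i, D z i ^ 3 = s z.1 := fun z i => by
    have h3 : s z.1 ^ 3 = s z.1 := by rw [pow_succ, pow_two, hs, one_mul]
    fin_cases i <;> simp only [D, Fin.zero_eta, Fin.mk_one, Fin.reduceFinMk, Matrix.cons_val_zero,
      Matrix.cons_val_one, Matrix.cons_val, mul_pow, hw6, h3, mul_one]
    rw [show (w ^ 2 : ℂ) ^ ((z.2.1 : ℕ) + z.2.2) = w ^ (2 * ((z.2.1 : ℕ) + z.2.2)) from (pow_mul _ _ _).symm,
      hw6, mul_one]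
  have hmul : ∀ (σ : Equiv.Perm (Fin 3)) (d : Fin 3 → ℂ) (v : V) (i : Fin 3),
      ((σ.permMatrix ℂ * Matrix.diagonal d) *ᵥ v) i = d (σ i) * v (σ i) := by
    intro σ d v i
    rw [← Matrix.mulVec_mulVec, Matrix.permMatrix_mulVec, Function.comp_apply, Matrix.mulVec_diagonal]
  have hevM : ∀ (σ : Equiv.Perm (Fin 3)) (d : Fin 3 → ℂ) (v : V),
      eval v (sub (σ.permMatrix ℂ * Matrix.diagonal d) (HesseCubic.form k)) =
      ∑ i, (d i * v i) ^ 3 - 3 * k * ∏ i, d i * v i := by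
    intro σ d v
    rw [eval_sub, eval_form, hmul, hmul, hmul]
    rw [← Equiv.sum_comp σ fun i => (d i * v i) ^ 3, ← Equiv.prod_comp σ fun i => d i * v i,
      Fin.sum_univ_three, Fin.prod_univ_three]
  have hdetM : ∀ (σ : Equiv.Perm (Fin 3)) (d : Fin 3 → ℂ),
      (σ.permMatrix ℂ * Matrix.diagonal d).det = s σ * (d 0 * d 1 * d 2) := by
    intro σ d
    rw [Matrix.det_mul, Matrix.det_permutation, Matrix.det_diagonal, Fin.prod_univ_three]
  have hinjM : Function.Injective M := by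
    intro z z' h
    have hdne : ∀ z i, D z i ≠ 0 := fun z i h0 => by
      have := hD3 z i
      rw [h0, zero_pow three_ne_zero] at this
      have h1 := hs z.1
      rw [← this, mul_zero] at h1
      exact zero_ne_one h1
    have hentry : ∀ z i j, M z i j = if z.1 i = j then D z j else 0 := fun z i j => by
      simp [M, Matrix.mul_diagonal, PEquiv.toMatrix_apply]
    have hσ : z.1 = z'.1 := Equiv.ext fun i => by
      by_contra hne
      have := congrFun (congrFun h i) (z.1 i)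
      rw [hentry, hentry, if_pos rfl, if_neg (Ne.symm hne)] at this
      exact hdne _ _ this
    have hd : ∀ j, D z j = D z' j := fun j => by
      have := congrFun (congrFun h (z.1.symm j)) j
      rwa [hentry, hentry, ← hσ, if_pos (z.1.apply_symm_apply j), if_pos (z.1.apply_symm_apply j)] at this
    have hp : IsPrimitiveRoot w 3 := by
      refine IsPrimitiveRoot.iff_def w 3 |>.2 ⟨hw3, fun l hl => ?_⟩
      have := (orderOf_eq_prime hw3 hw1 : orderOf w = 3)
      exact this ▸ orderOf_dvd_of_pow_eq_one hl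
    have hsne : s z.1 ≠ 0 := fun h0 => by
      have := hs z.1; rw [h0, mul_zero] at this; exact zero_ne_one this
    have h0 := hd 0
    have h1 := hd 1
    simp only [D, Matrix.cons_val_zero, Matrix.cons_val_one, ← hσ] at h0 h1
    have e0 : z.2.1 = z'.2.1 := Fin.ext (hp.pow_inj z.2.1.isLt z'.2.1.isLt (mul_left_cancel₀ hsne h0))
    have e1 : z.2.2 = z'.2.2 := Fin.ext (hp.pow_inj z.2.2.isLt z'.2.2.isLt (mul_left_cancel₀ hsne h1))
    exact Prod.ext hσ (Prod.ext e0 e1)
  have hset : {A : Mat | A.det = 1 ∧ ∃ c : ℂ, sub A (HesseCubic.form k) = C c * HesseCubic.form k} =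
      Set.range M := by
    ext A
    constructor
    · rintro ⟨hdet, c, hc⟩
      have hA : IsUnit A.det := by rw [hdet]; exact isUnit_one
      have hc0 : c ≠ 0 := by
        intro h0
        have h1 := congrArg (eval (A⁻¹ *ᵥ ![1, 0, 0])) hc
        rw [eval_sub, Matrix.mulVec_mulVec, Matrix.mul_nonsing_inv A hA, Matrix.one_mulVec, eval_form,
          h0] at h1
        simp at h1
      obtain ⟨b, -, hb⟩ := exists_triangle hk hA hc0 hc
      obtain ⟨σ, d, rfl⟩ := exists_monomial hA.ne_zero hb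
      have he : ∀ v : V, ∑ i, (d i * v i) ^ 3 - 3 * k * ∏ i, d i * v i =
          c * (v 0 ^ 3 + v 1 ^ 3 + v 2 ^ 3 - 3 * k * (v 0 * v 1 * v 2)) := fun v => by
        rw [← hevM σ d v, hc, map_mul, eval_C, eval_form]
      have h0 := he ![1, 0, 0]
      have h1 := he ![0, 1, 0]
      have h2 := he ![0, 0, 1]
      have h3 := he ![1, 1, 1]
      simp [Fin.sum_univ_three, Fin.prod_univ_three] at h0 h1 h2 h3
      have hP : d 0 * d 1 * d 2 = c := by
        have : k * (d 0 * d 1 * d 2 - c) = 0 := by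
          linear_combination (1/3 : ℂ) * h0 + (1/3 : ℂ) * h1 + (1/3 : ℂ) * h2 - (1/3 : ℂ) * h3
        exact sub_eq_zero.1 ((mul_eq_zero.1 this).resolve_left hk0)
      rw [hdetM, hP] at hdet
      have hcs : c = s σ := by
        calc c = (s σ * s σ) * c := by rw [hs, one_mul]
          _ = s σ := by rw [mul_assoc, hdet, mul_one]
      have hsne : s σ ≠ 0 := hcs ▸ hc0
      have hroot : ∀ x : ℂ, x ^ 3 = c → ∃ a : Fin 3, x = s σ * w ^ (a : ℕ) := by
        intro x hx
        have hp : IsPrimitiveRoot w 3 := by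
          refine IsPrimitiveRoot.iff_def w 3 |>.2 ⟨hw3, fun l hl => ?_⟩
          have := (orderOf_eq_prime hw3 hw1 : orderOf w = 3)
          exact this ▸ orderOf_dvd_of_pow_eq_one hl
        obtain ⟨a, ha, hax⟩ := hp.eq_pow_of_pow_eq_one (ξ := x * s σ) (by
          rw [mul_pow, hx, hcs, pow_succ (s σ) 2, pow_two, hs, one_mul, hs])
        exact ⟨⟨a, ha⟩, by rw [hax, mul_left_comm, hs, mul_one]⟩
      obtain ⟨a, ha⟩ := hroot _ h0
      obtain ⟨a', ha'⟩ := hroot _ h1
      refine ⟨(σ, a, a'), ?_⟩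
      show σ.permMatrix ℂ * Matrix.diagonal (D (σ, a, a')) = σ.permMatrix ℂ * Matrix.diagonal d
      congr 2
      have h2' : d 2 = s σ * (w ^ 2) ^ ((a : ℕ) + a') := by
        have e : (w ^ (a : ℕ)) * (w ^ (a' : ℕ)) * (w ^ 2) ^ ((a : ℕ) + a') = 1 := by
          calc _ = (w ^ 3) ^ ((a : ℕ) + a') := by ring
            _ = 1 := by rw [hw3, one_pow]
        rw [ha, ha', hcs] at hP
        calc d 2 = (w ^ (a : ℕ) * w ^ (a' : ℕ) * (w ^ 2) ^ ((a : ℕ) + a')) * (s σ * s σ) * d 2 := by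
              rw [e, hs, one_mul, one_mul]
          _ = (w ^ 2) ^ ((a : ℕ) + a') * (s σ * w ^ (a : ℕ) * (s σ * w ^ (a' : ℕ)) * d 2) := by ring
          _ = s σ * (w ^ 2) ^ ((a : ℕ) + a') := by rw [hP, mul_comm]
      funext i
      fin_cases i
      · exact ha.symm
      · exact ha'.symm
      · exact h2'.symm
    · rintro ⟨z, rfl⟩
      refine ⟨?_, s z.1, MvPolynomial.funext fun v => ?_⟩
      · show (z.1.permMatrix ℂ * Matrix.diagonal (D z)).det = 1
        rw [hdetM, hprod, hs]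
      · show eval v (sub (z.1.permMatrix ℂ * Matrix.diagonal (D z)) _) = _
        rw [hevM, map_mul, eval_C, eval_form, Finset.prod_mul_distrib, Fin.prod_univ_three, hprod,
          Fin.prod_univ_three, Fin.sum_univ_three, mul_pow, mul_pow, mul_pow, hD3, hD3, hD3]
        ring
  calc Nat.card {A : Mat // A.det = 1 ∧ ∃ c : ℂ, sub A (HesseCubic.form k) = C c * HesseCubic.form k}
      = Nat.card (Set.range M) := Nat.card_congr (Equiv.setCongr hset)
    _ = Nat.card (Equiv.Perm (Fin 3) × Fin 3 × Fin 3) := Nat.card_range_of_injective hinjM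
    _ = 54 := by simp [Nat.card_eq_fintype_card, Fintype.card_perm, Nat.factorial]

end Groth.Agent.HesseLib
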